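import Groth.Agent.AVTrace.Retraction
import Groth.Agent.AVFac.Tate
import Groth.Agent.AVIsog3.Simple
import Groth.Agent.Lib.AVMulN
import Groth.Agent.GrpSchLib.RigidHom

/-!
Poincaré's complete reducibility over any field.
-/

set_option linter.style.haveILetI false
set_option linter.unusedSectionVars false
set_option backward.isDefEq.respectTransparency false
set_option backward.isDefEq.respectTransparency.types false

universe u

open CategoryTheory CategoryTheory.Limits MonoidalCategory CartesianMonoidalCategory MonObj GrpObj AlgebraicGeometry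

namespace Groth.Agent.AVTrace

variable {k : Type u} [Field k] {A B : Over (Spec (CommRingCat.of k))}
  [GrpObj A] [IsProper A.hom] [GeometricallyIntegral A.hom]
  [GrpObj B] [IsProper B.hom] [GeometricallyIntegral B.hom]

/-- An abelian subvariety is a retract up to a positive integer, over any field. -/
theorem exists_retraction (i : B ⟶ A) [IsMonHom i] [IsClosedImmersion i.left] :
    ∃ (r : A ⟶ B) (d : ℕ), 0 < d ∧ IsMonHom r ∧ i ≫ r = (𝟙 B) ^ d := by
  haveI := AVFac.smooth_av A
  haveI := AVFac.smooth_av B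
  haveI : IsCommMonObj B := isCommMonObj_of_isProper_of_geometricallyIntegral B
  obtain ⟨r₁, d, hd, hr⟩ := exists_equivariant (G := A) i
  let r : A ⟶ B := r₁ * (toUnit A ≫ η[A] ≫ r₁)⁻¹
  have hone : η[A] ≫ r = 1 := by
    simp only [r, MonObj.comp_mul, GrpObj.comp_inv]
    rw [← Category.assoc, show η[A] ≫ toUnit A = 𝟙 _ from toUnit_unique _ _, Category.id_comp, mul_inv_cancel]
  haveI := GrpSchLib.RigidHom.isMonHom_of_one r hone
  refine ⟨r, d, hd, inferInstance, ?_⟩
  have h := hr B 1 (𝟙 B)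
  rw [Category.id_comp, _root_.one_mul] at h
  simp only [r, MonObj.comp_mul, GrpObj.comp_inv]
  rw [h, ← Category.assoc, show i ≫ toUnit A = toUnit B from toUnit_unique _ _,
    show (1 : B ⟶ A) ≫ r₁ = toUnit B ≫ η[A] ≫ r₁ from Category.assoc _ _ _, mul_inv_cancel_comm]

/-- Poincaré reducibility with its projections. -/
theorem exists_complement_data (i : B ⟶ A) [IsMonHom i] [IsClosedImmersion i.left] :
    ∃ (C : Over (Spec (CommRingCat.of k))) (_ : GrpObj C) (_ : IsProper C.hom) (_ : GeometricallyIntegral C.hom)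
      (j : C ⟶ A) (r : A ⟶ B) (q : A ⟶ C) (d : ℕ), 0 < d ∧ IsMonHom j ∧ IsClosedImmersion j.left ∧ IsMonHom r ∧
        IsMonHom q ∧ Surjective q.left ∧ i ≫ r = (𝟙 B) ^ d ∧ j ≫ r = 1 ∧ (r ≫ i) * (q ≫ j) = (𝟙 A) ^ d := by
  haveI : IsCommMonObj A := isCommMonObj_of_isProper_of_geometricallyIntegral A
  haveI : IsCommMonObj B := isCommMonObj_of_isProper_of_geometricallyIntegral B
  obtain ⟨r, d, hd, _, hri⟩ := exists_retraction i
  let s : A ⟶ A := (𝟙 A) ^ d * (r ≫ i)⁻¹
  have hs_hom : η[A] ≫ s = 1 := by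
    simp only [s, MonObj.comp_mul, MonObj.comp_pow, GrpObj.comp_inv, Category.comp_id]
    rw [← Category.assoc, IsMonHom.one_hom, IsMonHom.one_hom]
    simp [show (η[A] : _ ⟶ A) = 1 from ((Category.id_comp _).symm.trans (congrArg (· ≫ η[A]) (toUnit_unique (𝟙 _) (toUnit _))))]
  haveI := GrpSchLib.RigidHom.isMonHom_of_one s hs_hom
  obtain ⟨C, _, _, _, j, q, _, _, _, _, hq⟩ := AVIsog3.exists_image_factor s
  haveI : IsCommMonObj C := isCommMonObj_of_isProper_of_geometricallyIntegral C
  have hsr : s ≫ r = 1 := by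
    simp only [s, MonObj.mul_comp, GrpObj.inv_comp, Category.assoc, hri, MonObj.pow_comp, Category.id_comp,
      MonObj.comp_pow, Category.comp_id, mul_inv_cancel]
  have hjr : j ≫ r = 1 := by
    haveI : IsIntegral C.left := GeometricallyIntegral.isIntegral_of_subsingleton C.hom
    haveI : B.left.IsSeparated := ⟨by rw [← terminal.comp_from B.hom]; infer_instance⟩
    haveI : IsDominant q.left := inferInstance
    apply Over.OverMorphism.ext
    refine ext_of_isDominant q.left ?_
    have h : q ≫ j ≫ r = q ≫ (1 : C ⟶ B) := by rw [reassoc_of% hq, hsr, MonObj.comp_one]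
    exact congrArg CommaMorphism.left h
  refine ⟨C, inferInstance, inferInstance, inferInstance, j, r, q, d, hd, inferInstance, inferInstance, inferInstance,
    inferInstance, inferInstance, hri, hjr, ?_⟩
  rw [hq]
  simp only [s]
  rw [mul_comm, inv_mul_cancel_right]

/-- The sum map from a subvariety and a complement killed by a retraction is finite. -/
theorem isFinite_sum (i : B ⟶ A) [IsMonHom i] [IsClosedImmersion i.left] {C : Over (Spec (CommRingCat.of k))}
    [GrpObj C] [IsProper C.hom] [GeometricallyIntegral C.hom] (j : C ⟶ A) [IsMonHom j] [IsClosedImmersion j.left]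
    (r : A ⟶ B) [IsMonHom r] (d : ℕ) (hd : 0 < d) (hri : i ≫ r = (𝟙 B) ^ d) (hjr : j ≫ r = 1) :
    IsFinite ((fst B C ≫ i) * (snd B C ≫ j)).left := by
  haveI : IsCommMonObj A := isCommMonObj_of_isProper_of_geometricallyIntegral A
  haveI : IsCommMonObj B := isCommMonObj_of_isProper_of_geometricallyIntegral B
  haveI : IsCommMonObj C := isCommMonObj_of_isProper_of_geometricallyIntegral C
  let m : B ⊗ C ⟶ A := (fst B C ≫ i) * (snd B C ≫ j)
  have hmr : m ≫ r = (fst B C) ^ d := by
    simp only [m, MonObj.mul_comp, Category.assoc, hri, hjr, MonObj.comp_one, MonObj.comp_pow, Category.comp_id,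
      _root_.mul_one]
  let ν : A ⟶ B ⊗ A := lift r (𝟙 A)
  let E : B ⊗ C ⟶ B ⊗ A := m ≫ ν
  let Φ : B ⊗ A ⟶ B ⊗ A := lift (fst B A) ((fst B A ≫ i)⁻¹ * snd B A)
  have hd' : 1 ≤ d := hd
  haveI := AVMulN.isFinite_pow (A := B) d hd'
  haveI := AVMulN.isFinite_pow (A := A) d hd'
  have hfac : m ≫ lift r ((𝟙 A) ^ d * (r ≫ i)⁻¹) = ((𝟙 B) ^ d ⊗ₘ (((𝟙 C) ^ d : C ⟶ C) ≫ j)) := by
    apply CartesianMonoidalCategory.hom_ext
    · rw [Category.assoc, lift_fst, hmr, tensorHom_fst, MonObj.comp_pow, Category.comp_id]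
    · rw [Category.assoc, lift_snd, tensorHom_snd]
      simp only [MonObj.comp_mul, MonObj.comp_pow, GrpObj.comp_inv, Category.comp_id, ← Category.assoc, hmr,
        MonObj.pow_comp]
      simp only [m, mul_pow, mul_comm ((fst B C ≫ i) ^ d), mul_inv_cancel_right]
  haveI : IsFinite ((𝟙 C) ^ d : C ⟶ C).left := AVMulN.isFinite_pow (A := C) d hd'
  haveI : IsFinite (((𝟙 C) ^ d : C ⟶ C) ≫ j).left := by rw [Over.comp_left]; infer_instance
  haveI : IsFinite (((𝟙 B) ^ d ⊗ₘ (((𝟙 C) ^ d : C ⟶ C) ≫ j))).left := by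
    rw [MonoidalCategory.tensorHom_def, Over.comp_left]
    haveI : IsFinite (((𝟙 B) ^ d) ▷ C).left :=
      MorphismProperty.of_isPullback (GrpSchLib.isPullback_whiskerRight ((𝟙 B) ^ d : B ⟶ B) C).flip ‹_›
    haveI : IsFinite (B ◁ (((𝟙 C) ^ d : C ⟶ C) ≫ j)).left :=
      MorphismProperty.of_isPullback (GrpSchLib.isPullback_whiskerLeft (W := B) (((𝟙 C) ^ d : C ⟶ C) ≫ j)).flip inferInstance
    infer_instance
  haveI : IsFinite (m.left ≫ (lift r ((𝟙 A) ^ d * (r ≫ i)⁻¹) : A ⟶ B ⊗ A).left) := by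
    rw [← Over.comp_left, hfac]; infer_instance
  haveI : IsSeparated (lift r ((𝟙 A) ^ d * (r ≫ i)⁻¹) : A ⟶ B ⊗ A).left := by
    haveI : IsSeparated ((lift r ((𝟙 A) ^ d * (r ≫ i)⁻¹) : A ⟶ B ⊗ A).left ≫ (B ⊗ A).hom) := by
      rw [Over.w]; infer_instance
    exact IsSeparated.of_comp _ (B ⊗ A).hom
  exact IsFinite.of_comp m.left (lift r ((𝟙 A) ^ d * (r ≫ i)⁻¹) : A ⟶ B ⊗ A).left


/-- Poincaré reducibility: an abelian subvariety has a complement. -/
theorem exists_complement (i : B ⟶ A) [IsMonHom i] [IsClosedImmersion i.left] :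
    ∃ (C : Over (Spec (CommRingCat.of k))) (_ : GrpObj C) (j : C ⟶ A), IsProper C.hom ∧ GeometricallyIntegral C.hom ∧
      IsMonHom j ∧ IsClosedImmersion j.left ∧
      Surjective ((fst B C ≫ i) * (snd B C ≫ j)).left ∧ IsFinite ((fst B C ≫ i) * (snd B C ≫ j)).left := by
  haveI : IsCommMonObj A := isCommMonObj_of_isProper_of_geometricallyIntegral A
  haveI : IsCommMonObj B := isCommMonObj_of_isProper_of_geometricallyIntegral B
  obtain ⟨C, _, _, _, j, r, q, d, hd, _, _, _, _, _, hri, hjr, hsum⟩ := exists_complement_data i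
  haveI : IsCommMonObj C := isCommMonObj_of_isProper_of_geometricallyIntegral C
  let m : B ⊗ C ⟶ A := (fst B C ≫ i) * (snd B C ≫ j)
  let n : A ⟶ B ⊗ C := lift r q
  have hnm : n ≫ m = (𝟙 A) ^ d := by
    simp only [n, m, MonObj.comp_mul, lift_fst_assoc, lift_snd_assoc]
    exact hsum
  refine ⟨C, inferInstance, j, inferInstance, inferInstance, inferInstance, inferInstance, ?_, ?_⟩
  · haveI : Surjective (n.left ≫ m.left) := by
      rw [← Over.comp_left, hnm]
      exact AVMulN.surjective_pow (A := A) d hd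
    exact Surjective.of_comp n.left m.left
  · exact isFinite_sum i j r d hd hri hjr

end Groth.Agent.AVTrace
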