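import Mathlib.RingTheory.Unramified.Field
import Mathlib.RingTheory.Unramified.Locus
import Mathlib.RingTheory.LocalRing.Module
import Mathlib.RingTheory.Etale.Basic
import Mathlib.FieldTheory.IsSepClosed
import Mathlib.FieldTheory.Galois.Infinite
import Mathlib.LinearAlgebra.FreeModule.Finite.Matrix
import Mathlib.Algebra.DualNumber
import Mathlib.RingTheory.Artinian.Module
import Mathlib.RingTheory.Spectrum.Prime.Noetherian
import Mathlib.RingTheory.Smooth.Flat
import Mathlib.FieldTheory.Minpoly.IsIntegrallyClosed

/-!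
Unramified points of an algebra of finite type with values in fields over the generic point of the base.
-/

set_option linter.style.haveILetI false
set_option backward.isDefEq.respectTransparency false
set_option backward.isDefEq.respectTransparency.types false

universe u

open TensorProduct TrivSqZeroExt

namespace Groth.Agent.AVTrace

variable {R C Ω : Type u} [CommRing R] [CommRing C] [Field Ω] [Algebra R C] [Algebra R Ω]

/-- A point with values in a field having only the trivial infinitesimal deformation over the base. -/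
def Good (ψ : C →ₐ[R] Ω) : Prop :=
  ∀ χ : C →ₐ[R] DualNumber Ω, (∀ c, (χ c).fst = ψ c) → ∀ c, (χ c).snd = 0

theorem good_of_isUnramifiedAt (ψ : C →ₐ[R] Ω) [(RingHom.ker ψ).IsPrime]
    (h : Algebra.IsUnramifiedAt R (RingHom.ker ψ)) : Good ψ := by
  intro χ hχ c
  letI : Module C Ω := Module.compHom Ω (ψ : C →+* Ω)
  have hsm : ∀ (a : C) (w : Ω), a • w = ψ a * w := fun a w => rfl
  haveI : IsScalarTower R C Ω := ⟨fun r a w => by
    rw [hsm, hsm, map_smul, smul_mul_assoc]⟩
  let δ : Derivation R C Ω :=
    { toFun := fun a => (χ a).snd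
      map_add' := fun a b => by simp
      map_smul' := fun r a => by simp
      map_one_eq_zero' := by show (χ 1).snd = 0; simp
      leibniz' := fun a b => by
        show (χ (a * b)).snd = a • (χ b).snd + b • (χ a).snd
        rw [map_mul, snd_mul, hsm, hsm, hχ, hχ]
        simp only [smul_eq_mul, op_smul_eq_smul, MulOpposite.smul_eq_mul_unop, MulOpposite.unop_op]
        ring }
  have hsub : Subsingleton (LocalizedModule (RingHom.ker ψ).primeCompl (Ω[C⁄R])) := by
    have hi := IsLocalizedModule.iso (RingHom.ker ψ).primeCompl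
      (KaehlerDifferential.map R R C (Localization.AtPrime (RingHom.ker ψ)))
    haveI := (Algebra.formallyUnramified_iff R (Localization.AtPrime (RingHom.ker ψ))).1 h
    exact hi.toEquiv.subsingleton
  obtain ⟨g, hg, hg0⟩ := LocalizedModule.subsingleton_iff.1 hsub (KaehlerDifferential.D R C c)
  have h0 := congrArg δ.liftKaehlerDifferential hg0
  rw [map_smul, map_zero, Derivation.liftKaehlerDifferential_comp_D] at h0
  have : ψ g * (χ c).snd = 0 := h0
  exact (mul_eq_zero.1 this).resolve_left hg

theorem isUnramifiedAt_of_good [Algebra.FiniteType R C] (ψ : C →ₐ[R] Ω) [hp : (RingHom.ker ψ).IsPrime]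
    (h : Good ψ) : Algebra.IsUnramifiedAt R (RingHom.ker ψ) := by
  by_contra hun
  have hmem : (⟨RingHom.ker ψ, hp⟩ : PrimeSpectrum C) ∈ Module.support C (Ω[C⁄R]) := by
    have h' : (⟨RingHom.ker ψ, hp⟩ : PrimeSpectrum C) ∉ Algebra.unramifiedLocus R C := hun
    rwa [Algebra.unramifiedLocus_eq_compl_support, Set.notMem_compl_iff] at h'
  rw [Module.mem_support_iff_nontrivial_residueField_tensorProduct] at hmem
  let q := RingHom.ker ψ
  let κ := q.ResidueField
  let N := κ ⊗[C] Ω[C⁄R]
  haveI : Nontrivial N := hmem
  obtain ⟨n, hn⟩ := exists_ne (0 : N)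
  obtain ⟨φ, hφ⟩ : ∃ φ : Module.Dual κ N, φ n ≠ 0 := by
    by_contra hall
    push_neg at hall
    exact hn ((Module.forall_dual_apply_eq_zero_iff κ n).1 hall)
  obtain ⟨e, he⟩ : ∃ e : κ →+* Ω, ∀ a : C, e (algebraMap C κ a) = ψ a := by
    refine ⟨Ideal.ResidueField.lift q (ψ : C →+* Ω) le_rfl (fun a ha => ?_), fun a => ?_⟩
    · exact isUnit_iff_ne_zero.2 ha
    · exact Ideal.ResidueField.lift_algebraMap q _ _ _ a
  let m : Ω[C⁄R] → Ω := fun w => e (φ (1 ⊗ₜ[C] w))
  have hm : ∀ (a : C) w, m (a • w) = ψ a * m w := fun a w => by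
    show e (φ (1 ⊗ₜ[C] (a • w))) = ψ a * e (φ (1 ⊗ₜ[C] w))
    rw [← TensorProduct.smul_tmul, Algebra.smul_def, mul_one]
    have : (algebraMap C κ a) ⊗ₜ[C] w = algebraMap C κ a • ((1 : κ) ⊗ₜ[C] w) := by
      rw [TensorProduct.smul_tmul', smul_eq_mul, mul_one]
    rw [this, map_smul, smul_eq_mul, map_mul, he]
  have hadd : ∀ v w, m (v + w) = m v + m w := fun v w => by
    simp only [m, TensorProduct.tmul_add, map_add]
  let D := KaehlerDifferential.D R C
  let χ : C →ₐ[R] DualNumber Ω :=
    { toFun := fun a => inl (ψ a) + inr (m (D a))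
      map_one' := by
        have h0 : m 0 = 0 := by simp [m]
        simp [h0]
      map_mul' := fun a b => by
        refine TrivSqZeroExt.ext ?_ ?_
        · simp
        · simp only [Derivation.leibniz, hadd, hm, snd_add, snd_inl, snd_inr, zero_add, snd_mul,
            fst_add, fst_inl, fst_inr, add_zero, smul_eq_mul, MulOpposite.smul_eq_mul_unop,
            MulOpposite.unop_op, map_mul]
          ring
      map_zero' := by
        have h0 : m 0 = 0 := by simp [m]
        simp [h0]
      map_add' := fun a b => by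
        refine TrivSqZeroExt.ext ?_ ?_ <;> simp [hadd, add_comm, add_left_comm]
      commutes' := fun r => by
        have h0 : m 0 = 0 := by simp [m]
        refine TrivSqZeroExt.ext ?_ ?_ <;> simp [h0, D, algebraMap_eq_inl'] }
  have hzero : ∀ a, m (D a) = 0 := fun a => by
    have := h χ (fun c => by simp [χ]) a
    simpa [χ] using this
  have hall : ∀ w, m w = 0 := fun w => by
    have hw : w ∈ Submodule.span C (Set.range D) := by
      rw [KaehlerDifferential.span_range_derivation]; trivial
    induction hw using Submodule.span_induction with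
    | mem x hx => obtain ⟨a, rfl⟩ := hx; exact hzero a
    | zero => simp [m]
    | add x y _ _ hx hy => rw [hadd, hx, hy, add_zero]
    | smul a x _ hx => rw [hm, hx, mul_zero]
  suffices hzN : ∀ n, φ n = 0 from hφ (hzN n)
  intro n
  induction n using TensorProduct.induction_on with
  | zero => exact map_zero _
  | tmul a w =>
    have : a ⊗ₜ[C] w = a • ((1 : κ) ⊗ₜ[C] w) := by
      rw [TensorProduct.smul_tmul', smul_eq_mul, mul_one]
    rw [this, map_smul]
    have h1 : φ (1 ⊗ₜ[C] w) = 0 := e.injective (by rw [map_zero]; exact hall w)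
    rw [h1, smul_zero]
  | add a b ha hb => rw [map_add, ha, hb, add_zero]

variable {F : Type u} [Field F] [Algebra R F] [Algebra F Ω] [IsScalarTower R F Ω]
variable [Algebra.FiniteType R C]

/-- Homomorphisms from an unramified algebra into a field: finitely many, separable values. -/
theorem homs_of_formallyUnramified (F : Type u) [Field F] [Algebra R F] [Algebra F Ω] [IsScalarTower R F Ω]
    (A : Type u) [CommRing A] [Algebra R A] [Algebra.FiniteType R A]
    [Algebra.FormallyUnramified R A] :
    Finite (A →ₐ[R] Ω) ∧ ∀ (ψ : A →ₐ[R] Ω) (a : A), IsSeparable F (ψ a) := by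
  let E := F ⊗[R] A
  haveI : Module.Finite F E := Algebra.FormallyUnramified.finite_of_free F E
  let toE : (A →ₐ[R] Ω) → (E →ₐ[F] Ω) := fun ψ =>
    Algebra.TensorProduct.lift (Algebra.ofId F Ω) ψ fun _ _ => Commute.all _ _
  have hinj : Function.Injective toE := fun ψ ψ' h => by
    ext a
    have h1 := DFunLike.congr_fun h ((1 : F) ⊗ₜ[R] a)
    simp only [toE] at h1
    erw [Algebra.TensorProduct.lift_tmul, Algebra.TensorProduct.lift_tmul] at h1
    simp only [map_one, one_mul] at h1
    exact h1
  refine ⟨Finite.of_injective toE hinj, fun ψ a => ?_⟩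
  let f := toE ψ
  have hfin : Module.Finite F f.range := Module.Finite.of_surjective f.rangeRestrict.toLinearMap
    f.rangeRestrict_surjective
  have hF : IsField f.range := by
    haveI := hfin
    haveI : IsArtinianRing f.range := IsArtinianRing.of_finite F f.range
    exact IsArtinianRing.isField_of_isDomain _
  let S : IntermediateField F Ω := f.range.toIntermediateField' hF
  let g : E →ₐ[F] S := f.rangeRestrict
  have hg : Function.Surjective g := f.rangeRestrict_surjective
  haveI : Algebra.FormallyUnramified F S := Algebra.FormallyUnramified.of_surjective g hg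
  haveI : Module.Finite F S := Module.Finite.of_surjective g.toLinearMap hg
  haveI : Algebra.IsSeparable F S := Algebra.FormallyUnramified.isSeparable F S
  have hmem : ψ a ∈ S := by
    refine (AlgHom.mem_range f).2 ⟨(1 : F) ⊗ₜ[R] a, ?_⟩
    show Algebra.TensorProduct.lift (Algebra.ofId F Ω) ψ _ ((1 : F) ⊗ₜ[R] a) = ψ a
    rw [Algebra.TensorProduct.lift_tmul, map_one, one_mul]
  exact (IsSeparable.map (F := F) S.val Subtype.val_injective (Algebra.IsSeparable.isSeparable F (⟨ψ a, hmem⟩ : ↥S)) :)

omit [Algebra.FiniteType R C] in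
theorem isPrime_ker (ψ : C →ₐ[R] Ω) : (RingHom.ker ψ).IsPrime := RingHom.ker_isPrime _

/-- Good points have separable values. -/
theorem isSeparable_of_good (ψ : C →ₐ[R] Ω) (h : Good ψ) (c : C) : IsSeparable F (ψ c) := by
  haveI := isPrime_ker ψ
  haveI := isUnramifiedAt_of_good ψ h
  obtain ⟨g, hg, hU⟩ := Algebra.exists_unramified_of_isUnramifiedAt (R := R) (RingHom.ker ψ)
  let ψ' : Localization.Away g →ₐ[R] Ω := IsLocalization.liftAlgHom (M := Submonoid.powers g) (f := ψ) (by
    rintro ⟨y, n, rfl⟩
    exact isUnit_iff_ne_zero.2 (by simpa using pow_ne_zero n hg))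
  have := (homs_of_formallyUnramified F (Localization.Away g)).2 ψ' (algebraMap C _ c)
  simpa [ψ'] using this

include F in
/-- There are finitely many good points with values in a field. -/
theorem finite_good [IsNoetherianRing C] : {ψ : C →ₐ[R] Ω | Good ψ}.Finite := by
  classical
  let U := Algebra.unramifiedLocus R C
  have hcov : U ⊆ ⋃ g : {g : C // Algebra.FormallyUnramified R (Localization.Away g)},
      (PrimeSpectrum.basicOpen g.1 : Set (PrimeSpectrum C)) := fun p hp => by
    haveI : Algebra.IsUnramifiedAt R p.asIdeal := hp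
    obtain ⟨g, hg, hgu⟩ := Algebra.exists_formallyUnramified_of_isUnramifiedAt (R := R) p.asIdeal
    exact Set.mem_iUnion.2 ⟨⟨g, hgu⟩, hg⟩
  haveI : TopologicalSpace.NoetherianSpace (PrimeSpectrum C) := inferInstance
  obtain ⟨s, hs⟩ := (TopologicalSpace.NoetherianSpace.isCompact U).elim_finite_subcover _
    (fun g => TopologicalSpace.Opens.isOpen _) hcov
  have hfin : ∀ g : {g : C // Algebra.FormallyUnramified R (Localization.Away g)},
      {ψ : C →ₐ[R] Ω | ψ g.1 ≠ 0}.Finite := fun g => by
    haveI := g.2
    haveI : Algebra.FiniteType R (Localization.Away g.1) :=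
      Algebra.FiniteType.trans ‹_› (IsLocalization.finiteType_of_monoid_fg (Submonoid.powers g.1) _)
    haveI := (homs_of_formallyUnramified (R := R) (Ω := Ω) F (Localization.Away g.1)).1
    refine (Set.finite_range fun φ : Localization.Away g.1 →ₐ[R] Ω =>
      φ.comp (IsScalarTower.toAlgHom R C (Localization.Away g.1))).subset fun ψ hψ => ?_
    refine ⟨IsLocalization.liftAlgHom (M := Submonoid.powers g.1) (f := ψ) (by
      rintro ⟨y, n, rfl⟩
      exact isUnit_iff_ne_zero.2 (by simpa using pow_ne_zero n hψ)), ?_⟩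
    ext c; simp
  refine (s.finite_toSet.biUnion fun g _ => hfin g).subset fun ψ hψ => ?_
  haveI := isPrime_ker ψ
  obtain ⟨g, hgs, hg⟩ := Set.mem_iUnion₂.1
    (hs (show (⟨RingHom.ker ψ, isPrime_ker ψ⟩ : PrimeSpectrum C) ∈ U from isUnramifiedAt_of_good ψ hψ))
  exact Set.mem_iUnion₂.2 ⟨g, hgs, hg⟩

variable {L : Type u} [Field L] [Algebra R L] [Algebra F L] [IsScalarTower R F L] [IsSepClosure F L]

theorem good_comp_iff (j : L →ₐ[R] Ω) (ψ : C →ₐ[R] L) : Good (j.comp ψ) ↔ Good ψ := by
  have hk : RingHom.ker (j.comp ψ) = RingHom.ker ψ := by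
    ext c; simp [map_eq_zero]
  haveI := isPrime_ker ψ
  haveI := isPrime_ker (j.comp ψ)
  constructor <;> intro h
  · refine good_of_isUnramifiedAt _ ?_
    have := isUnramifiedAt_of_good _ h
    simpa only [hk] using this
  · refine good_of_isUnramifiedAt _ ?_
    have := isUnramifiedAt_of_good _ h
    simpa only [hk] using this

/-- Good points with values in a field come from the separable closure. -/
theorem exists_comp_eq (j : L →ₐ[F] Ω) (ψ : C →ₐ[R] Ω) (h : Good ψ) :
    ∃ ψ₀ : C →ₐ[R] L, (j.restrictScalars R).comp ψ₀ = ψ := by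
  haveI : IsSepClosed L := IsSepClosure.sep_closed F
  have hmem : ∀ c, ψ c ∈ j.range := fun c => by
    have hs := isSeparable_of_good (F := F) ψ h c
    have hsp : ((minpoly F (ψ c)).map (algebraMap F L)).Splits := IsSepClosed.splits_codomain _ hs
    exact hs.isIntegral.mem_range_algHom_of_minpoly_splits hsp j
  let e := AlgEquiv.ofInjective j j.injective
  refine ⟨(e.symm.toAlgHom.restrictScalars R).comp (ψ.codRestrict (j.range.restrictScalars R) hmem), ?_⟩
  ext c
  show j (e.symm _) = ψ c
  exact (congrArg Subtype.val (e.apply_symm_apply _))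

/-- A prime with étale neighbourhood gives a good point with values in the separable closure. -/
theorem exists_good [IsDomain R] [IsFractionRing R F] (g : C) [Algebra.Etale R (Localization.Away g)]
    (q : Ideal C) [q.IsPrime] (hg : g ∉ q) : ∃ ψ : C →ₐ[R] L, Good ψ := by
  let A := Localization.Away g
  haveI : Nontrivial A := by
    by_contra hn
    rw [not_nontrivial_iff_subsingleton] at hn
    have h10 : algebraMap C A 1 = algebraMap C A 0 := Subsingleton.elim _ _
    obtain ⟨⟨_, n, rfl⟩, hn⟩ := IsLocalization.exists_of_eq (M := Submonoid.powers g) h10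
    simp only [mul_one, mul_zero] at hn
    exact hg (‹q.IsPrime›.mem_of_pow_mem n (hn ▸ q.zero_mem))
  let E := F ⊗[R] A
  haveI : Nontrivial E := by
    have hinj : Function.Injective (Algebra.TensorProduct.includeRight (R := R) (A := F) (B := A)) :=
      Algebra.TensorProduct.includeRight_injective (IsFractionRing.injective R F)
    exact hinj.nontrivial
  obtain ⟨m, hm⟩ := Ideal.exists_maximal E
  letI := Ideal.Quotient.field m
  haveI : Algebra.FormallyUnramified F (E ⧸ m) :=
    Algebra.FormallyUnramified.of_surjective (Ideal.Quotient.mkₐ F m) Ideal.Quotient.mk_surjective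
  haveI : Algebra.IsSeparable F (E ⧸ m) := Algebra.FormallyUnramified.isSeparable F _
  haveI : IsSepClosed L := IsSepClosure.sep_closed F
  let φ : E →ₐ[F] L := (IsSepClosed.lift : (E ⧸ m) →ₐ[F] L).comp (Ideal.Quotient.mkₐ F m)
  let ψA : A →ₐ[R] L := (φ.restrictScalars R).comp Algebra.TensorProduct.includeRight
  refine ⟨ψA.comp (IsScalarTower.toAlgHom R C A), ?_⟩
  haveI := isPrime_ker (ψA.comp (IsScalarTower.toAlgHom R C A))
  refine good_of_isUnramifiedAt _ ?_
  exact Algebra.basicOpen_subset_unramifiedLocus_iff.2 (inferInstanceAs (Algebra.FormallyUnramified R A))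
    (show (⟨_, isPrime_ker _⟩ : PrimeSpectrum C) ∈ PrimeSpectrum.basicOpen g from by
      show g ∉ RingHom.ker (ψA.comp (IsScalarTower.toAlgHom R C A))
      intro hk
      have hu : IsUnit (ψA (algebraMap C A g)) :=
        (IsLocalization.Away.algebraMap_isUnit g).map ψA
      exact hu.ne_zero hk)

end Groth.Agent.AVTrace
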