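import Mathlib
import Groth.Agent.GrpSchLib.Coincidence

/-!
An affine chart of `(g, b) ↦ (g, g·i(b)⁻¹)` around the unit.
-/

set_option linter.style.haveILetI false
set_option backward.isDefEq.respectTransparency false
set_option backward.isDefEq.respectTransparency.types false

universe u

open CategoryTheory CategoryTheory.Limits MonoidalCategory CartesianMonoidalCategory MonObj GrpObj AlgebraicGeometry

namespace Groth.Agent.AVTrace

variable {k : Type u} [Field k] {G B : Over (Spec (CommRingCat.of k))} [GrpObj G]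

/-- `g * i(b)⁻¹`. -/
noncomputable def pair (i : B ⟶ G) {T : Over (Spec (CommRingCat.of k))} (a : T ⟶ G) (β : T ⟶ B) : T ⟶ G :=
  a * (β ≫ i)⁻¹

theorem comp_pair (i : B ⟶ G) {T T' : Over (Spec (CommRingCat.of k))} (f : T' ⟶ T) (a : T ⟶ G) (β : T ⟶ B) :
    f ≫ pair i a β = pair i (f ≫ a) (f ≫ β) := by
  simp [pair, MonObj.comp_mul, GrpObj.comp_inv, Category.assoc]

/-- Affine chart around the unit. -/
structure Chart (i : B ⟶ G) where
  R : CommRingCat.{u}
  D : CommRingCat.{u}
  κ : CommRingCat.of k ⟶ R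
  ε : R ⟶ CommRingCat.of k
  κε : κ ≫ ε = 𝟙 _
  ρ : R ⟶ D
  θ : R ⟶ D
  κθ : κ ≫ θ = κ ≫ ρ
  p : Over.mk (Spec.map κ) ⟶ G
  p_open : IsOpenImmersion p.left
  εp : Spec.map ε ≫ p.left = η[G].left
  o : Over.mk (Spec.map (κ ≫ ρ)) ⟶ G ⊗ B
  o_open : IsOpenImmersion o.left
  o_fst : Spec.map ρ ≫ p.left = (o ≫ fst G B).left
  o_pair : Spec.map θ ≫ p.left = (pair i (o ≫ fst G B) (o ≫ snd G B)).left
  univ : ∀ {T : Over (Spec (CommRingCat.of k))} (a v : T ⟶ Over.mk (Spec.map κ)) (β : T ⟶ B),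
    pair i (a ≫ p) β = v ≫ p → ∃ z : T ⟶ Over.mk (Spec.map (κ ≫ ρ)),
      z.left ≫ Spec.map ρ = a.left ∧ z.left ≫ Spec.map θ = v.left ∧ z ≫ o ≫ snd G B = β
  smooth : ρ.hom.Smooth
  unit_cl : ∀ {E : CommRingCat.{u}} (f : D ⟶ E), θ ≫ f = ε ≫ κ ≫ ρ ≫ f →
    IsClosedImmersion (Spec.map f) → Function.Surjective (ρ ≫ f).hom

theorem isClosedImmersion_sh [IsSeparated G.hom] (i : B ⟶ G) [IsClosedImmersion i.left] :
    IsClosedImmersion (lift (fst G B) (pair i (fst G B) (snd G B))).left := by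
  let inv' : G ⊗ G ⟶ G ⊗ G := lift (fst G G) (fst G G * (snd G G)⁻¹)
  let inv'' : G ⊗ G ⟶ G ⊗ G := lift (fst G G) ((snd G G)⁻¹ * fst G G)
  have h1 : inv' ≫ inv'' = 𝟙 _ := by
    ext1 <;> simp [inv', inv'', MonObj.comp_mul, GrpObj.comp_inv, mul_assoc]
  have h2 : inv'' ≫ inv' = 𝟙 _ := by
    ext1 <;> simp [inv', inv'', MonObj.comp_mul, GrpObj.comp_inv, mul_assoc]
  let e : G ⊗ G ≅ G ⊗ G := ⟨inv', inv'', h1, h2⟩
  have heq : lift (fst G B) (pair i (fst G B) (snd G B)) = (G ◁ i) ≫ e.hom := by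
    ext1 <;> simp [e, inv', pair, MonObj.comp_mul, GrpObj.comp_inv]
  haveI : IsClosedImmersion (G ◁ i).left :=
    MorphismProperty.of_isPullback (GrpSchLib.isPullback_whiskerLeft (W := G) i).flip ‹_›
  haveI : IsIso e.hom.left := ((Over.forget _).mapIso e).isIso_hom
  rw [heq, Over.comp_left]
  infer_instance

/-- Charts exist. -/
theorem exists_chart [IsSeparated G.hom] [GrpObj B] [Smooth B.hom] (i : B ⟶ G) [IsMonHom i] [IsClosedImmersion i.left] :
    Nonempty (Chart i) := by
  let e : G.left := η[G].left (IsLocalRing.closedPoint k)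
  obtain ⟨P, hP, he⟩ : ∃ P : G.left.Opens, IsAffineOpen P ∧ e ∈ P := by
    obtain ⟨_, ⟨U, hU, rfl⟩, h, -⟩ := G.left.isBasis_affineOpens.exists_subset_of_mem_open (Set.mem_univ e) isOpen_univ
    exact ⟨U, hU, h⟩
  let R : CommRingCat.{u} := Γ(G.left, P)
  let κ : CommRingCat.of k ⟶ R := Spec.preimage (hP.fromSpec ≫ G.hom)
  have hκ : Spec.map κ = hP.fromSpec ≫ G.hom := Spec.map_preimage _
  let p : Over.mk (Spec.map κ) ⟶ G := Over.homMk hP.fromSpec hκ.symm
  haveI : IsOpenImmersion p.left := inferInstanceAs (IsOpenImmersion hP.fromSpec)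
  have hrange : Set.range η[G].left ⊆ Set.range hP.fromSpec := by
    rw [hP.range_fromSpec]
    rintro _ ⟨x, rfl⟩
    haveI : Subsingleton ↥(𝟙_ (Over (Spec (CommRingCat.of k)))).left := inferInstanceAs (Subsingleton (PrimeSpectrum k))
    rwa [Subsingleton.elim x (IsLocalRing.closedPoint k)]
  let εS : Spec (CommRingCat.of k) ⟶ Spec R := IsOpenImmersion.lift hP.fromSpec η[G].left hrange
  have hε : εS ≫ hP.fromSpec = η[G].left := IsOpenImmersion.lift_fac _ _ _
  let ε : R ⟶ CommRingCat.of k := Spec.preimage εS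
  have hκε : κ ≫ ε = 𝟙 _ := by
    apply Spec.map_injective
    rw [Spec.map_comp, Spec.map_preimage, hκ, reassoc_of% hε, Spec.map_id]
    exact Over.w η[G]
  let P' : Over (Spec (CommRingCat.of k)) := Over.mk (Spec.map κ)
  let W := P' ⊗ P'
  haveI : IsAffine W.left := inferInstanceAs (IsAffine (pullback (Spec.map κ) (Spec.map κ)))
  let sh : G ⊗ B ⟶ G ⊗ G := lift (fst G B) (pair i (fst G B) (snd G B))
  haveI : IsClosedImmersion sh.left := isClosedImmersion_sh i
  haveI : IsOpenImmersion (p ⊗ₘ p).left := by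
    rw [Over.tensorHom_left]
    infer_instance
  let O := pullback sh.left (p ⊗ₘ p).left
  haveI : IsClosedImmersion (pullback.snd sh.left (p ⊗ₘ p).left) := inferInstance
  haveI : IsAffine O := isAffine_of_isAffineHom (pullback.snd sh.left (p ⊗ₘ p).left)
  let D : CommRingCat.{u} := Γ(O, ⊤)
  let c : Spec D ⟶ W.left := O.isoSpec.inv ≫ pullback.snd sh.left (p ⊗ₘ p).left
  haveI : IsClosedImmersion c := inferInstance
  let ρ : R ⟶ D := Spec.preimage (c ≫ (fst P' P').left)
  let θ : R ⟶ D := Spec.preimage (c ≫ (snd P' P').left)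
  have hρ : Spec.map ρ = c ≫ (fst P' P').left := Spec.map_preimage _
  have hθ : Spec.map θ = c ≫ (snd P' P').left := Spec.map_preimage _
  have hκθ : κ ≫ θ = κ ≫ ρ := by
    apply Spec.map_injective
    rw [Spec.map_comp, Spec.map_comp, hρ, hθ, Category.assoc, Category.assoc]
    exact (congrArg (c ≫ ·) (Over.w (snd P' P'))).trans (congrArg (c ≫ ·) (Over.w (fst P' P'))).symm
  let cW : Over.mk (Spec.map (κ ≫ ρ)) ⟶ W := Over.homMk c (by
    show c ≫ W.hom = Spec.map (κ ≫ ρ)
    rw [Spec.map_comp, hρ, Category.assoc]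
    exact (congrArg (c ≫ ·) (Over.w (fst P' P'))).symm)
  let oS : Spec D ⟶ (G ⊗ B).left := O.isoSpec.inv ≫ pullback.fst sh.left (p ⊗ₘ p).left
  haveI : IsOpenImmersion oS := inferInstance
  have hosh : oS ≫ sh.left = c ≫ (p ⊗ₘ p).left := by
    simp [oS, c, pullback.condition]
  let o : Over.mk (Spec.map (κ ≫ ρ)) ⟶ G ⊗ B := Over.homMk oS (by
    show oS ≫ (G ⊗ B).hom = Spec.map (κ ≫ ρ)
    have h1 : sh.left ≫ (G ⊗ G).hom = (G ⊗ B).hom := Over.w sh
    have h2 : (p ⊗ₘ p).left ≫ (G ⊗ G).hom = W.hom := Over.w (p ⊗ₘ p)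
    rw [← h1, reassoc_of% hosh, h2]
    exact Over.w cW)
  have hosh' : o ≫ sh = cW ≫ (p ⊗ₘ p) := Over.OverMorphism.ext (by simpa [o, cW] using hosh)
  have hf : o ≫ fst G B = cW ≫ fst P' P' ≫ p := by
    have := congrArg (· ≫ fst G G) hosh'
    simpa [sh, tensorHom_fst] using this
  have hs : pair i (o ≫ fst G B) (o ≫ snd G B) = cW ≫ snd P' P' ≫ p := by
    have := congrArg (· ≫ snd G G) hosh'
    simpa [sh, tensorHom_snd, comp_pair] using this
  refine ⟨{
    R := R, D := D, κ := κ, ε := ε, κε := hκε, ρ := ρ, θ := θ, κθ := hκθ, p := p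
    p_open := inferInstance
    εp := by
      show Spec.map ε ≫ hP.fromSpec = _
      rw [Spec.map_preimage]; exact hε
    o := o, o_open := inferInstanceAs (IsOpenImmersion oS)
    o_fst := by
      rw [hf, Over.comp_left, Over.comp_left, hρ, Category.assoc]; rfl
    o_pair := by
      rw [hs, Over.comp_left, Over.comp_left, hθ, Category.assoc]; rfl
    univ := ?_
    smooth := ?_
    unit_cl := ?_ }⟩
  · intro T a v β h
    have hsh : (lift (a ≫ p) β ≫ sh).left = (lift a v ≫ (p ⊗ₘ p)).left := by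
      congr 1
      ext1
      · simp [sh, tensorHom_fst]
      · simp [sh, tensorHom_snd, comp_pair, h]
    let zS : T.left ⟶ Spec D :=
      pullback.lift (lift (a ≫ p) β).left (lift a v).left (by simpa only [Over.comp_left] using hsh) ≫ O.isoSpec.hom
    have hzc : zS ≫ c = (lift a v).left := by simp [zS, c]
    have hzo : zS ≫ oS = (lift (a ≫ p) β).left := by simp [zS, oS]
    refine ⟨Over.homMk zS ?_, ?_, ?_, ?_⟩
    · show zS ≫ Spec.map (κ ≫ ρ) = T.hom
      rw [← (show c ≫ W.hom = Spec.map (κ ≫ ρ) from Over.w cW), reassoc_of% hzc]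
      exact Over.w (lift a v)
    · show zS ≫ Spec.map ρ = a.left
      rw [hρ, reassoc_of% hzc, ← Over.comp_left, lift_fst]
    · show zS ≫ Spec.map θ = v.left
      rw [hθ, reassoc_of% hzc, ← Over.comp_left, lift_snd]
    · apply Over.OverMorphism.ext
      show zS ≫ oS ≫ (snd G B).left = β.left
      rw [reassoc_of% hzo, ← Over.comp_left, lift_snd]
  · have hsm : Smooth (Spec.map ρ ≫ p.left) := by
      rw [show Spec.map ρ ≫ p.left = oS ≫ (fst G B).left from by
        rw [← show (o ≫ fst G B).left = oS ≫ (fst G B).left from rfl, hf, Over.comp_left, Over.comp_left, hρ,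
          Category.assoc]; rfl]
      haveI : Smooth (fst G B).left := inferInstanceAs (Smooth (pullback.fst G.hom B.hom))
      infer_instance
    have : Smooth (Spec.map ρ) :=
      MorphismProperty.of_isPullback (P := @Smooth)
        (IsPullback.of_horiz_isIso_mono (fst := 𝟙 _) (snd := Spec.map ρ) (f := Spec.map ρ ≫ p.left)
          (g := p.left) ⟨by simp⟩) hsm
    exact (HasRingHomProperty.Spec_iff (P := @Smooth)).1 this
  · intro E f hfθ hfc
    haveI := hfc
    let w := Spec.map f ≫ c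
    let s : P' ⟶ W := lift (𝟙 P') (toUnit P' ≫ (Over.homMk εS (by
      show εS ≫ Spec.map κ = _
      rw [← Spec.map_preimage εS, ← Spec.map_comp, hκε, Spec.map_id]; rfl) : 𝟙_ _ ⟶ P'))
    haveI : IsSeparated (fst P' P').left := inferInstanceAs (IsSeparated (pullback.fst (Spec.map κ) (Spec.map κ)))
    have hs1 : s.left ≫ (fst P' P').left = 𝟙 _ := by
      rw [← Over.comp_left, lift_fst]; rfl
    haveI : IsClosedImmersion (s.left ≫ (fst P' P').left) := by rw [hs1]; infer_instance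
    haveI : IsClosedImmersion s.left := IsClosedImmersion.of_comp s.left (fst P' P').left
    have hw : Spec.map (ρ ≫ f) ≫ s.left = w := by
      show Spec.map (ρ ≫ f) ≫ s.left = Spec.map f ≫ c
      apply pullback.hom_ext
      · rw [Category.assoc, Category.assoc]
        show Spec.map (ρ ≫ f) ≫ (s ≫ fst P' P').left = Spec.map f ≫ c ≫ (fst P' P').left
        rw [lift_fst, ← hρ, ← Spec.map_comp ρ f]
        exact Category.comp_id _
      · rw [Category.assoc, Category.assoc]
        show Spec.map (ρ ≫ f) ≫ (s ≫ snd P' P').left = Spec.map f ≫ c ≫ (snd P' P').left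
        rw [lift_snd, ← hθ, ← Spec.map_comp θ f, hfθ, Over.comp_left]
        show Spec.map (ρ ≫ f) ≫ Spec.map κ ≫ εS = _
        have hεS : Spec.map ε = εS := Spec.map_preimage εS
        refine (congrArg (fun t => Spec.map (ρ ≫ f) ≫ Spec.map κ ≫ t) hεS.symm).trans ?_
        show Spec.map (ρ ≫ f) ≫ Spec.map κ ≫ Spec.map ε = _
        rw [← Spec.map_comp, ← Spec.map_comp]
        simp only [Category.assoc]
    haveI : IsClosedImmersion (Spec.map (ρ ≫ f) ≫ s.left) := by rw [hw]; infer_instance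
    have h := IsClosedImmersion.of_comp (Spec.map (ρ ≫ f)) s.left
    haveI := h
    have h2 := (IsClosedImmersion.isAffine_surjective_of_isAffine (f := Spec.map (ρ ≫ f))).2
    have hn := Scheme.ΓSpecIso_inv_naturality (ρ ≫ f)
    intro y
    obtain ⟨x, hx⟩ := h2 ((Scheme.ΓSpecIso E).inv y)
    refine ⟨(Scheme.ΓSpecIso R).hom x, ?_⟩
    apply (ConcreteCategory.bijective_of_isIso (Scheme.ΓSpecIso E).inv).1
    refine Eq.trans ?_ hx
    have h3 := ConcreteCategory.congr_hom hn ((Scheme.ΓSpecIso R).hom x)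
    refine Eq.trans h3 ?_
    exact congrArg (fun t => (Spec.map (ρ ≫ f)).appTop t) (ConcreteCategory.congr_hom (Scheme.ΓSpecIso R).hom_inv_id x)

end Groth.Agent.AVTrace
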