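import Groth.Agent.AVTrace.Alg
import Groth.Agent.EtLC12.CutEtale

/-!
Cutting out an étale piece by members of a generating set, and the good point it gives.
-/

set_option linter.style.haveILetI false
set_option backward.isDefEq.respectTransparency false
set_option backward.isDefEq.respectTransparency.types false

universe u

open TensorProduct KaehlerDifferential

namespace Groth.Agent.AVTrace

variable {R B : Type u} [CommRing R] [CommRing B] [Algebra R B]

/-- As `exists_etale_cut`, with the functions taken from a generating set of the ideal. -/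
theorem exists_etale_cut' [Algebra.Smooth R B] (I q : Ideal B) [q.IsPrime] (hIq : I ≤ q)
    (s : Set B) (hs : Ideal.span s = I) [Algebra.FormallyUnramified R (B ⧸ I)] :
    ∃ g ∉ q, ∃ (κ : Type u) (_ : Finite κ) (f : κ → B), (∀ i, f i ∈ s) ∧
      Algebra.Etale R (Localization.Away g ⧸
        Ideal.span (Set.range fun i => algebraMap B (Localization.Away g) (f i))) := by
  let Bp := Localization.AtPrime q
  let lp : Ω[B⁄R] →ₗ[B] Ω[Bp⁄R] := KaehlerDifferential.map R R B Bp
  have : Algebra.FormallySmooth R Bp := Algebra.FormallySmooth.comp R B Bp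
  have hspan : Submodule.span Bp (Set.range fun x : s => lp (D R B (x : B))) = ⊤ := by
    set N := Submodule.span Bp (Set.range fun x : s => lp (D R B (x : B)))
    haveI : Module.Finite Bp (Ω[Bp⁄R]) := Module.Finite.of_isLocalizedModule q.primeCompl (Rₚ := Bp) lp
    have hgen : Submodule.span Bp (Set.range lp) = ⊤ := by
      have := span_eq_top_of_isLocalizedModule Bp q.primeCompl lp (Submodule.span_univ (R := B) (M := Ω[B⁄R]))
      rwa [Set.image_univ] at this
    refine top_le_iff.mp (Submodule.le_of_le_smul_of_le_jacobson_bot Module.Finite.fg_top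
      (IsLocalRing.maximalIdeal_le_jacobson _) ?_)
    rw [← hgen, Submodule.span_le]
    rintro _ ⟨y, rfl⟩
    obtain ⟨x, hx, hmem⟩ := EtLC12.CutEtale.exists_D_sub_mem_smul I y
    have hgen' : IsLocalRing.maximalIdeal Bp • Submodule.span Bp (Set.range lp) =
        IsLocalRing.maximalIdeal Bp • (⊤ : Submodule Bp (Ω[Bp⁄R])) := by rw [hgen]
    have hI : ∀ x ∈ I, lp (D R B x) ∈ N ⊔ IsLocalRing.maximalIdeal Bp • (⊤ : Submodule Bp (Ω[Bp⁄R])) := by
      intro x hx
      rw [← hs] at hx
      induction hx using Submodule.span_induction with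
      | mem x hx => exact Submodule.mem_sup_left (Submodule.subset_span ⟨⟨x, hx⟩, rfl⟩)
      | zero => simp
      | add x y _ _ hx hy => rw [map_add, map_add]; exact add_mem hx hy
      | smul a x hxs hx =>
        rw [smul_eq_mul, Derivation.leibniz, map_add, map_smul, map_smul]
        refine add_mem ?_ (Submodule.mem_sup_right ?_)
        · rw [← algebraMap_smul Bp a (lp (D R B x))]
          exact Submodule.smul_mem _ _ hx
        · rw [← algebraMap_smul Bp x (lp (D R B a))]
          exact Submodule.smul_mem_smul ((IsLocalization.AtPrime.to_map_mem_maximal_iff Bp q x).mpr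
            (hIq (hs ▸ hxs))) Submodule.mem_top
    have h1 : lp (y - D R B x) ∈ IsLocalRing.maximalIdeal Bp • Submodule.span Bp (Set.range lp) := by
      refine Submodule.smul_induction_on (p := fun z => lp z ∈
        IsLocalRing.maximalIdeal Bp • Submodule.span Bp (Set.range lp)) hmem (fun a ha m _ => ?_)
        fun a b ha hb => by rw [map_add]; exact add_mem ha hb
      rw [map_smul, ← algebraMap_smul Bp a (lp m)]
      exact Submodule.smul_mem_smul
        ((IsLocalization.AtPrime.to_map_mem_maximal_iff Bp q a).mpr (hIq ha)) (Submodule.subset_span ⟨m, rfl⟩)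
    have h2 : lp y = lp (D R B x) + lp (y - D R B x) := by rw [map_sub, add_sub_cancel]
    show lp y ∈ N ⊔ _
    rw [h2]
    refine add_mem ?_ (Submodule.mem_sup_right h1)
    rw [hgen']
    exact hI x hx
  obtain ⟨κ, a, b, hb⟩ := Module.exists_basis_of_span_of_flat _ hspan
  let e : (κ →₀ B) →ₗ[B] Ω[B⁄R] := Finsupp.linearCombination B fun i : κ => D R B (a i : B)
  let l₁ : (κ →₀ B) →ₗ[B] (κ →₀ Bp) := Finsupp.mapRange.linearMap (Algebra.linearMap B Bp)
  let eₚ : (κ →₀ Bp) →ₗ[Bp] Ω[Bp⁄R] := IsLocalizedModule.mapExtendScalars q.primeCompl l₁ lp Bp e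
  have hep : eₚ = b.repr.symm := by
    ext i
    trans IsLocalizedModule.map q.primeCompl l₁ lp e <| l₁ <| Finsupp.single i 1
    · simp [eₚ, -IsLocalizedModule.map_apply, l₁]
    · simp [lp, e, hb]
  have heₚ : Function.Bijective eₚ := hep ▸ b.repr.symm.bijective
  have : Finite κ := Module.Finite.finite_basis b
  obtain ⟨g, hg, h⟩ := Module.FinitePresentation.exists_notMem_bijective e q l₁ lp heₚ
  let l₁ₜ : (κ →₀ B) →ₗ[B] (κ →₀ Localization.Away g) :=
    Finsupp.mapRange.linearMap (Algebra.linearMap B _)
  let l₂ₜ : Ω[B⁄R] →ₗ[B] Ω[Localization.Away g⁄R] := KaehlerDifferential.map R R B (Localization.Away g)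
  rw [← IsLocalizedModule.map_bijective_iff_localizedModuleMap_bijective l₁ₜ l₂ₜ] at h
  let eₜ' : (κ →₀ Localization.Away g) →ₗ[Localization.Away g] Ω[Localization.Away g⁄R] :=
    IsLocalizedModule.mapExtendScalars (Submonoid.powers g) l₁ₜ l₂ₜ (Localization.Away g) e
  haveI : Algebra.Smooth B (Localization.Away g) :=
    ⟨Algebra.FormallySmooth.of_isLocalization (Submonoid.powers g),
      IsLocalization.Away.finitePresentation g⟩
  haveI : Algebra.Smooth R (Localization.Away g) := Algebra.Smooth.comp R B (Localization.Away g)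
  refine ⟨g, hg, κ, inferInstance, fun i => (a i : B), fun i => (a i).2,
    EtLC12.CutEtale.etale_quotient _ (.ofRepr (LinearEquiv.ofBijective eₜ' h).symm) fun i => ?_⟩
  simp +zetaDelta [IsLocalizedModule.map_linearCombination]

variable {Ω : Type u} [Field Ω] [Algebra R Ω]

/-- A point factoring through an unramified localised quotient is good. -/
theorem good_of_factor {D : Type u} [CommRing D] [Algebra R D] (J : Ideal D) (g : D) {κ : Type u} (f : κ → D)
    (hf : ∀ i, f i ∈ J)
    [Algebra.FormallyUnramified R (Localization.Away g ⧸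
      Ideal.span (Set.range fun i => algebraMap D (Localization.Away g) (f i)))]
    (ψA : (Localization.Away g ⧸
      Ideal.span (Set.range fun i => algebraMap D (Localization.Away g) (f i))) →ₐ[R] Ω)
    (ψ : (D ⧸ J) →ₐ[R] Ω)
    (hψ : ∀ x, ψ (Ideal.Quotient.mk J x) = ψA (Ideal.Quotient.mk _ (algebraMap D _ x))) : Good ψ := by
  intro χ hχ c
  let K := Ideal.span (Set.range fun i => algebraMap D (Localization.Away g) (f i))
  let χD : D →ₐ[R] DualNumber Ω := χ.comp (Ideal.Quotient.mkₐ R J)
  have hu : IsUnit (χD g) := by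
    rw [TrivSqZeroExt.isUnit_iff_isUnit_fst]
    show IsUnit (χ (Ideal.Quotient.mk J g)).fst
    rw [hχ, hψ]
    exact ((IsLocalization.Away.algebraMap_isUnit g).map (Ideal.Quotient.mk K)).map ψA
  let χg : Localization.Away g →ₐ[R] DualNumber Ω :=
    IsLocalization.liftAlgHom (M := Submonoid.powers g) (f := χD) (by
      rintro ⟨y, n, rfl⟩
      simpa using hu.pow n)
  have hker : ∀ x ∈ K, χg x = 0 := by
    intro x hx
    induction hx using Submodule.span_induction with
    | mem x hx =>
      obtain ⟨i, rfl⟩ := hx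
      have h0 : Ideal.Quotient.mk J (f i) = 0 := Ideal.Quotient.eq_zero_iff_mem.2 (hf i)
      simp [χg, χD, h0]
    | zero => simp
    | add x y _ _ hx hy => rw [map_add, hx, hy, add_zero]
    | smul a x _ hx => rw [smul_eq_mul, map_mul, hx, mul_zero]
  let χA : (Localization.Away g ⧸ K) →ₐ[R] DualNumber Ω := Ideal.Quotient.liftₐ K χg hker
  have hc : (TrivSqZeroExt.fstHom R Ω Ω).comp χA = ψA := by
    refine Ideal.Quotient.algHom_ext R ?_
    refine IsLocalization.algHom_ext (Submonoid.powers g) ?_
    ext x
    show (χg (algebraMap D _ x)).fst = ψA (Ideal.Quotient.mk K (algebraMap D _ x))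
    simp only [χg, IsLocalization.liftAlgHom_apply, IsLocalization.lift_eq]
    show (χ (Ideal.Quotient.mk J x)).fst = _
    rw [hχ, hψ]
  have heq : χA = (TrivSqZeroExt.inlAlgHom R Ω Ω).comp ψA := by
    refine Algebra.FormallyUnramified.ext' (R := R) (A := Localization.Away g ⧸ K)
      (TrivSqZeroExt.fstHom R Ω Ω).toRingHom ?_ _ _ fun x => ?_
    · refine ⟨2, ?_⟩
      rw [pow_two, Ideal.zero_eq_bot, eq_bot_iff, Ideal.mul_le]
      intro x hx y hy
      have hx0 : x.fst = 0 := hx
      have hy0 : y.fst = 0 := hy
      refine (Ideal.mem_bot).2 (TrivSqZeroExt.ext ?_ ?_)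
      · simp [hx0]
      · simp [hx0, hy0, TrivSqZeroExt.snd_mul]
    · show (χA x).fst = (TrivSqZeroExt.inl (ψA x) : DualNumber Ω).fst
      rw [TrivSqZeroExt.fst_inl]
      exact DFunLike.congr_fun hc x
  obtain ⟨d, rfl⟩ := Ideal.Quotient.mk_surjective c
  have e1 : χA (Ideal.Quotient.mk K (algebraMap D _ d)) = χ (Ideal.Quotient.mk J d) := by
    show χg (algebraMap D (Localization.Away g) d) = _
    simp [χg, χD]
  rw [← e1, heq]
  exact TrivSqZeroExt.snd_inl _ _

variable {L : Type u} [IsDomain R] [Field L] [Algebra R L]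

/-- A nontrivial étale algebra over a domain has a point in the separable closure of the fraction field. -/
theorem nonempty_point (F : Type u) [Field F] [Algebra R F] [IsFractionRing R F] [Algebra F L]
    [IsScalarTower R F L] [IsSepClosure F L] (A : Type u) [CommRing A] [Algebra R A] [Algebra.Etale R A]
    [Nontrivial A] : Nonempty (A →ₐ[R] L) := by
  let E := F ⊗[R] A
  haveI : Nontrivial E := by
    have hinj : Function.Injective (Algebra.TensorProduct.includeRight (R := R) (A := F) (B := A)) :=
      Algebra.TensorProduct.includeRight_injective (IsFractionRing.injective R F)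
    exact hinj.nontrivial
  obtain ⟨m, hm⟩ := Ideal.exists_maximal E
  letI := Ideal.Quotient.field m
  haveI : Algebra.FormallyUnramified F (E ⧸ m) :=
    Algebra.FormallyUnramified.of_surjective (Ideal.Quotient.mkₐ F m) Ideal.Quotient.mk_surjective
  haveI : Algebra.IsSeparable F (E ⧸ m) := Algebra.FormallyUnramified.isSeparable F _
  haveI : IsSepClosed L := IsSepClosure.sep_closed F
  let φ : E →ₐ[F] L := (IsSepClosed.lift : (E ⧸ m) →ₐ[F] L).comp (Ideal.Quotient.mkₐ F m)
  exact ⟨(φ.restrictScalars R).comp Algebra.TensorProduct.includeRight⟩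

/-- An étale localised quotient having a point gives a good point in the separable closure. -/
theorem exists_good_quotient (F : Type u) [Field F] [Algebra R F] [IsFractionRing R F] [Algebra F L]
    [IsScalarTower R F L] [IsSepClosure F L] {D : Type u} [CommRing D] [Algebra R D] (J : Ideal D) (g : D) {κ : Type u}
    (f : κ → D) (hf : ∀ i, f i ∈ J) (hJ : J = Ideal.span (Set.range f))
    [Algebra.Etale R (Localization.Away g ⧸
      Ideal.span (Set.range fun i => algebraMap D (Localization.Away g) (f i)))]
    (q : Ideal D) [q.IsPrime] (hJq : J ≤ q) (hg : g ∉ q) :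
    ∃ ψ : (D ⧸ J) →ₐ[R] L, Good ψ := by
  let K := Ideal.span (Set.range fun i => algebraMap D (Localization.Away g) (f i))
  let A := Localization.Away g ⧸ K
  haveI : Nontrivial A := by
    refine Ideal.Quotient.nontrivial_iff.2 fun hK => ?_
    let φ : Localization.Away g →+* FractionRing (D ⧸ q) :=
      IsLocalization.lift (M := Submonoid.powers g)
        (g := (algebraMap (D ⧸ q) (FractionRing (D ⧸ q))).comp (Ideal.Quotient.mk q)) (by
        rintro ⟨y, n, rfl⟩
        have : algebraMap (D ⧸ q) (FractionRing (D ⧸ q)) (Ideal.Quotient.mk q g) ≠ 0 :=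
          (map_ne_zero_iff _ (IsFractionRing.injective _ _)).2 fun h => hg (Ideal.Quotient.eq_zero_iff_mem.1 h)
        exact isUnit_iff_ne_zero.2 (by simpa using pow_ne_zero n this))
    have hle : K ≤ RingHom.ker φ := by
      refine Ideal.span_le.2 ?_
      rintro _ ⟨i, rfl⟩
      have : Ideal.Quotient.mk q (f i) = 0 := Ideal.Quotient.eq_zero_iff_mem.2 (hJq (hf i))
      simp [φ, this]
    exact RingHom.ker_ne_top φ (top_le_iff.1 (hK ▸ hle))
  obtain ⟨ψA⟩ := nonempty_point (R := R) (L := L) F A
  let ψ : (D ⧸ J) →ₐ[R] L :=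
    Ideal.Quotient.liftₐ J (ψA.comp ((Ideal.Quotient.mkₐ R K).comp
      (IsScalarTower.toAlgHom R D (Localization.Away g)))) (fun x hx => by
      rw [hJ] at hx
      show ψA (Ideal.Quotient.mk K (algebraMap D _ x)) = 0
      have : algebraMap D (Localization.Away g) x ∈ K := by
        have := Ideal.mem_map_of_mem (algebraMap D (Localization.Away g)) hx
        rwa [Ideal.map_span, ← Set.range_comp] at this
      rw [Ideal.Quotient.eq_zero_iff_mem.2 this, map_zero])
  exact ⟨ψ, good_of_factor J g f hf ψA ψ fun x => rfl⟩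

end Groth.Agent.AVTrace
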