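import Groth.Agent.AVTrace.Chart
import Groth.Agent.AVTrace.Cut

/-!
Good points of the transversal over a field point, in terms of the algebra of the chart.
-/

set_option linter.style.haveILetI false
set_option backward.isDefEq.respectTransparency false
set_option backward.isDefEq.respectTransparency.types false

universe u

open CategoryTheory CategoryTheory.Limits MonoidalCategory CartesianMonoidalCategory MonObj GrpObj AlgebraicGeometry

namespace Groth.Agent.AVTrace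

variable {k : Type u} [Field k] {G B V : Over (Spec (CommRingCat.of k))} [GrpObj G]

/-- Factoring through `vι`. -/
def Mem (vι : V ⟶ G) {T : Over (Spec (CommRingCat.of k))} (v : T ⟶ G) : Prop := ∃ w : T ⟶ V, w ≫ vι = v

/-- The spectrum of the dual numbers over a field point. -/
noncomputable def thick {Ω : Type u} [Field Ω] (t : Spec (CommRingCat.of Ω) ⟶ Spec (CommRingCat.of k)) :
    Over (Spec (CommRingCat.of k)) :=
  Over.mk (Spec.map (CommRingCat.ofHom (TrivSqZeroExt.inlHom Ω Ω)) ≫ t)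

/-- The projection of the thickened point. -/
noncomputable def thickProj {Ω : Type u} [Field Ω] (t : Spec (CommRingCat.of Ω) ⟶ Spec (CommRingCat.of k)) :
    thick t ⟶ Over.mk t :=
  Over.homMk (Spec.map (CommRingCat.ofHom (TrivSqZeroExt.inlHom Ω Ω))) rfl

/-- The reduced point of the thickened point. -/
noncomputable def thickPt {Ω : Type u} [Field Ω] (t : Spec (CommRingCat.of Ω) ⟶ Spec (CommRingCat.of k)) :
    Over.mk t ⟶ thick t :=
  Over.homMk (Spec.map (CommRingCat.ofHom (TrivSqZeroExt.fstHom Ω Ω Ω).toRingHom)) (by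
    show Spec.map _ ≫ Spec.map _ ≫ t = t
    rw [← Spec.map_comp_assoc, ← CommRingCat.ofHom_comp,
      show (TrivSqZeroExt.fstHom Ω Ω Ω).toRingHom.comp (TrivSqZeroExt.inlHom Ω Ω) = RingHom.id Ω from
        RingHom.ext fun x => TrivSqZeroExt.fst_inl Ω x]
    exact (congrArg (· ≫ t) (Spec.map_id _)).trans (Category.id_comp t))

theorem thickPt_proj {Ω : Type u} [Field Ω] (t : Spec (CommRingCat.of Ω) ⟶ Spec (CommRingCat.of k)) :
    thickPt t ≫ thickProj t = 𝟙 _ := by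
  apply Over.OverMorphism.ext
  show Spec.map _ ≫ Spec.map _ = 𝟙 _
  rw [← Spec.map_comp, ← CommRingCat.ofHom_comp,
    show (TrivSqZeroExt.fstHom Ω Ω Ω).toRingHom.comp (TrivSqZeroExt.inlHom Ω Ω) = RingHom.id Ω from
      RingHom.ext fun x => TrivSqZeroExt.fst_inl Ω x]
  exact Spec.map_id _

/-- A point `β` with `a·i(β)⁻¹` in `V` and without nontrivial deformation over `a`. -/
def GoodPt (i : B ⟶ G) (vι : V ⟶ G) {Ω : Type u} [Field Ω]
    (t : Spec (CommRingCat.of Ω) ⟶ Spec (CommRingCat.of k)) (a : Over.mk t ⟶ G) (β : Over.mk t ⟶ B) : Prop :=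
  Mem vι (pair i a β) ∧ ∀ β' : thick t ⟶ B, thickPt t ≫ β' = β → Mem vι (pair i (thickProj t ≫ a) β') →
    β' = thickProj t ≫ β

namespace Chart

variable {i : B ⟶ G} (c : Chart i)

noncomputable instance algebra : Algebra c.R c.D := c.ρ.hom.toAlgebra

theorem algebraMap_eq : algebraMap c.R c.D = c.ρ.hom := rfl

/-- The closed subscheme of the chart of `G` cut out by `I`. -/
noncomputable def cutObj (I : Ideal c.R) : Over (Spec (CommRingCat.of k)) :=
  Over.mk (Spec.map (CommRingCat.ofHom (Ideal.Quotient.mk I)) ≫ Spec.map c.κ)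

/-- Its map to `G`. -/
noncomputable def cutMap (I : Ideal c.R) : c.cutObj I ⟶ G :=
  (Over.homMk (Spec.map (CommRingCat.ofHom (Ideal.Quotient.mk I))) rfl : c.cutObj I ⟶ Over.mk (Spec.map c.κ)) ≫ c.p

variable {Λ : CommRingCat.{u}} {t : Spec Λ ⟶ Spec (CommRingCat.of k)}

/-- The point of the chart attached to a ring map. -/
noncomputable def pointO (ψ : c.D ⟶ Λ) (φ : c.R ⟶ Λ) (a : Over.mk t ⟶ G)
    (ha : Spec.map φ ≫ c.p.left = a.left) (hψ : c.ρ ≫ ψ = φ) : Over.mk t ⟶ Over.mk (Spec.map (c.κ ≫ c.ρ)) :=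
  Over.homMk (Spec.map ψ) (by
    show Spec.map ψ ≫ Spec.map (c.κ ≫ c.ρ) = t
    refine Eq.trans ?_ (Over.w a)
    rw [← ha, Category.assoc, Over.w c.p, ← Spec.map_comp]
    show Spec.map ((c.κ ≫ c.ρ) ≫ ψ) = Spec.map φ ≫ Spec.map c.κ
    rw [← Spec.map_comp, Category.assoc, hψ])

variable (a : Over.mk t ⟶ G) (φ : c.R ⟶ Λ) (ha : Spec.map φ ≫ c.p.left = a.left)

theorem pointO_fst (ψ : c.D ⟶ Λ) (hψ : c.ρ ≫ ψ = φ) : c.pointO ψ φ a ha hψ ≫ c.o ≫ fst G B = a := by
  apply Over.OverMorphism.ext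
  show Spec.map ψ ≫ (c.o ≫ fst G B).left = a.left
  rw [← c.o_fst, ← Spec.map_comp_assoc, hψ, ha]

theorem pair_pointO (ψ : c.D ⟶ Λ) (hψ : c.ρ ≫ ψ = φ) :
    (pair i a (c.pointO ψ φ a ha hψ ≫ c.o ≫ snd G B)).left = Spec.map (c.θ ≫ ψ) ≫ c.p.left := by
  have h := comp_pair i (c.pointO ψ φ a ha hψ) (c.o ≫ fst G B) (c.o ≫ snd G B)
  rw [pointO_fst] at h
  rw [← h]
  show Spec.map ψ ≫ (pair i (c.o ≫ fst G B) (c.o ≫ snd G B)).left = _
  rw [← c.o_pair, ← Spec.map_comp_assoc]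

theorem mem_cut_iff (I : Ideal c.R) (v : Over.mk t ⟶ G) (χ : c.R ⟶ Λ)
    (hv : v.left = Spec.map χ ≫ c.p.left) : Mem (c.cutMap I) v ↔ ∀ x ∈ I, χ.hom x = 0 := by
  haveI := c.p_open
  constructor
  · rintro ⟨w, hw⟩ x hx
    have h : w.left ≫ Spec.map (CommRingCat.ofHom (Ideal.Quotient.mk I)) ≫ c.p.left = Spec.map χ ≫ c.p.left :=
      (congrArg CommaMorphism.left hw).trans hv
    rw [← Category.assoc, cancel_mono, ← Spec.map_preimage w.left, ← Spec.map_comp] at h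
    rw [← Spec.map_injective h]
    show (Spec.preimage w.left).hom (Ideal.Quotient.mk I x) = 0
    rw [Ideal.Quotient.eq_zero_iff_mem.2 hx, map_zero]
  · intro h
    let χ' : CommRingCat.of (c.R ⧸ I) ⟶ Λ := CommRingCat.ofHom (Ideal.Quotient.lift I χ.hom h)
    have hχ : CommRingCat.ofHom (Ideal.Quotient.mk I) ≫ χ' = χ := by
      ext x; rfl
    have he : Spec.map χ' ≫ Spec.map (CommRingCat.ofHom (Ideal.Quotient.mk I)) ≫ c.p.left = v.left := by
      rw [← Spec.map_comp_assoc, hχ, hv]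
    refine ⟨Over.homMk (Spec.map χ') ?_, Over.OverMorphism.ext he⟩
    show Spec.map χ' ≫ _ ≫ Spec.map c.κ = t
    refine Eq.trans ?_ (Over.w v)
    rw [← he, Category.assoc, Category.assoc, Over.w c.p]
    rfl

include ha in
theorem exists_pointO (I : Ideal c.R) (β : Over.mk t ⟶ B) (h : Mem (c.cutMap I) (pair i a β)) :
    ∃ (ψ : c.D ⟶ Λ) (hψ : c.ρ ≫ ψ = φ), c.pointO ψ φ a ha hψ ≫ c.o ≫ snd G B = β := by
  obtain ⟨w, hw⟩ := h
  let a' : Over.mk t ⟶ Over.mk (Spec.map c.κ) := Over.homMk (Spec.map φ) (by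
    show Spec.map φ ≫ Spec.map c.κ = t
    refine Eq.trans ?_ (Over.w a)
    rw [← ha, Category.assoc, Over.w c.p]; rfl)
  have ha' : a' ≫ c.p = a := Over.OverMorphism.ext ha
  obtain ⟨z, hz1, -, hz3⟩ := c.univ a'
    (w ≫ (Over.homMk (Spec.map (CommRingCat.ofHom (Ideal.Quotient.mk I))) rfl : c.cutObj I ⟶ Over.mk (Spec.map c.κ)))
    β (by rw [ha', Category.assoc]; exact hw.symm)
  have hψ : c.ρ ≫ Spec.preimage z.left = φ := by
    apply Spec.map_injective
    rw [Spec.map_comp, Spec.map_preimage]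
    exact hz1
  refine ⟨Spec.preimage z.left, hψ, ?_⟩
  have : c.pointO _ φ a ha hψ = z := Over.OverMorphism.ext (Spec.map_preimage z.left)
  rw [this]
  exact hz3

theorem pointO_injective {ψ ψ' : c.D ⟶ Λ} (hψ : c.ρ ≫ ψ = φ) (hψ' : c.ρ ≫ ψ' = φ)
    (h : c.pointO ψ φ a ha hψ ≫ c.o ≫ snd G B = c.pointO ψ' φ a ha hψ' ≫ c.o ≫ snd G B) : ψ = ψ' := by
  haveI := c.o_open
  have h1 : c.pointO ψ φ a ha hψ ≫ c.o = c.pointO ψ' φ a ha hψ' ≫ c.o := by
    apply CartesianMonoidalCategory.hom_ext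
    · rw [Category.assoc, Category.assoc, pointO_fst, pointO_fst]
    · simpa only [Category.assoc] using h
  have h2 : Spec.map ψ ≫ c.o.left = Spec.map ψ' ≫ c.o.left := congrArg CommaMorphism.left h1
  exact Spec.map_injective ((cancel_mono c.o.left).1 h2)

end Chart

section Good

variable {i : B ⟶ G} (c : Chart i) (I : Ideal c.R) {Ω : Type u} [Field Ω] [Algebra c.R Ω]
  (t : Spec (CommRingCat.of Ω) ⟶ Spec (CommRingCat.of k)) (a : Over.mk t ⟶ G)
  (ha : Spec.map (CommRingCat.ofHom (algebraMap c.R Ω)) ≫ c.p.left = a.left)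

/-- The algebra of the transversal over the chart. -/
abbrev Alg : Type u := (c.D : Type u) ⧸ I.map c.θ.hom

theorem algHom_rho {Λ : Type u} [CommRing Λ] [Algebra c.R Λ] (ψ : Alg c I →ₐ[c.R] Λ) :
    c.ρ ≫ CommRingCat.ofHom (ψ.toRingHom.comp (Ideal.Quotient.mk _)) = CommRingCat.ofHom (algebraMap c.R Λ) := by
  ext x
  exact ψ.commutes x

/-- The point attached to an algebra map. -/
noncomputable def goodMap (ψ : Alg c I →ₐ[c.R] Ω) : Over.mk t ⟶ B :=
  c.pointO _ _ a ha (algHom_rho c I ψ) ≫ c.o ≫ snd G B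

/-- Algebra maps to any test ring are the points with `a·i(β)⁻¹` in the cut. -/
theorem points_equiv {Λ : Type u} [CommRing Λ] [Algebra c.R Λ] {s : Spec (CommRingCat.of Λ) ⟶ Spec (CommRingCat.of k)}
    (b : Over.mk s ⟶ G) (hb : Spec.map (CommRingCat.ofHom (algebraMap c.R Λ)) ≫ c.p.left = b.left) :
    (∀ ψ : Alg c I →ₐ[c.R] Λ, Mem (c.cutMap I) (pair i b (c.pointO _ _ b hb (algHom_rho c I ψ) ≫ c.o ≫ snd G B))) ∧
      ∀ β : Over.mk s ⟶ B, Mem (c.cutMap I) (pair i b β) →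
        ∃ ψ : Alg c I →ₐ[c.R] Λ, c.pointO _ _ b hb (algHom_rho c I ψ) ≫ c.o ≫ snd G B = β := by
  refine ⟨fun ψ => ?_, fun β hβ => ?_⟩
  · rw [c.mem_cut_iff I _ _ (c.pair_pointO b _ hb _ (algHom_rho c I ψ))]
    intro x hx
    show ψ (Ideal.Quotient.mk _ (c.θ.hom x)) = 0
    rw [Ideal.Quotient.eq_zero_iff_mem.2 (Ideal.mem_map_of_mem _ hx), map_zero]
  · obtain ⟨ψ, hψ, rfl⟩ := c.exists_pointO b _ hb I β hβ
    rw [c.mem_cut_iff I _ _ (c.pair_pointO b _ hb ψ hψ)] at hβ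
    have hle : I.map c.θ.hom ≤ RingHom.ker ψ.hom := Ideal.map_le_iff_le_comap.2 fun x hx => hβ x hx
    let χ : Alg c I →ₐ[c.R] Λ :=
      { Ideal.Quotient.lift (I.map c.θ.hom) ψ.hom hle with
        commutes' := fun r => RingHom.congr_fun (congrArg CommRingCat.Hom.hom hψ) r }
    refine ⟨χ, ?_⟩
    congr 1

theorem goodMap_injective : Function.Injective (goodMap c I t a ha) := fun ψ ψ' h => by
  have h1 := c.pointO_injective a _ ha (algHom_rho c I ψ) (algHom_rho c I ψ') h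
  refine Ideal.Quotient.algHom_ext c.R ?_
  ext x
  exact RingHom.congr_fun (congrArg CommRingCat.Hom.hom h1) x

theorem goodPt_bijOn : Set.BijOn (goodMap c I t a ha) {ψ | Good ψ} {β | GoodPt i (c.cutMap I) t a β} := by
  have hE := points_equiv c I a ha
  have hae : Spec.map (CommRingCat.ofHom (algebraMap c.R (DualNumber Ω))) ≫ c.p.left = (thickProj t ≫ a).left := by
    show _ = Spec.map _ ≫ a.left
    rw [← ha, ← Spec.map_comp_assoc]
    rfl
  have hE' := points_equiv c I (thickProj t ≫ a) hae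
  have hfst : ∀ χ : Alg c I →ₐ[c.R] DualNumber Ω,
      thickPt t ≫ c.pointO _ _ (thickProj t ≫ a) hae (algHom_rho c I χ) ≫ c.o ≫ snd G B =
        goodMap c I t a ha ((TrivSqZeroExt.fstHom c.R Ω Ω).comp χ) := by
    intro χ
    unfold goodMap
    rw [← Category.assoc]
    congr 1
    apply Over.OverMorphism.ext
    show Spec.map _ ≫ Spec.map _ = Spec.map _
    rw [← Spec.map_comp]
    rfl
  have hinl : ∀ ψ : Alg c I →ₐ[c.R] Ω,
      c.pointO _ _ (thickProj t ≫ a) hae (algHom_rho c I ((TrivSqZeroExt.inlAlgHom c.R Ω Ω).comp ψ)) ≫ c.o ≫ snd G B =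
        thickProj t ≫ goodMap c I t a ha ψ := by
    intro ψ
    unfold goodMap
    rw [← Category.assoc (thickProj t)]
    congr 1
    apply Over.OverMorphism.ext
    show Spec.map _ = Spec.map _ ≫ Spec.map _
    rw [← Spec.map_comp]
    rfl
  refine ⟨fun ψ hψ => ⟨hE.1 ψ, fun β' hβ' hmem => ?_⟩, (goodMap_injective c I t a ha).injOn, fun β hβ => ?_⟩
  · obtain ⟨χ, rfl⟩ := hE'.2 β' hmem
    rw [hfst] at hβ'
    have h1 := goodMap_injective c I t a ha hβ'
    have h2 : χ = (TrivSqZeroExt.inlAlgHom c.R Ω Ω).comp ψ := by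
      ext x
      · show (χ x).fst = (TrivSqZeroExt.inl (ψ x) : DualNumber Ω).fst
        rw [TrivSqZeroExt.fst_inl]
        exact DFunLike.congr_fun h1 x
      · show (χ x).snd = (TrivSqZeroExt.inl (ψ x) : DualNumber Ω).snd
        rw [TrivSqZeroExt.snd_inl]
        exact hψ χ (fun y => DFunLike.congr_fun h1 y) x
    rw [h2, hinl]
  · obtain ⟨ψ, rfl⟩ := hE.2 β hβ.1
    refine ⟨ψ, fun χ hχ x => ?_, rfl⟩
    have h1 : (TrivSqZeroExt.fstHom c.R Ω Ω).comp χ = ψ := AlgHom.ext hχ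
    have h2 := hβ.2 _ (by rw [hfst χ, h1]; rfl) (hE'.1 χ)
    rw [show c.pointO _ _ a ha (algHom_rho c I ψ) ≫ c.o ≫ snd G B = goodMap c I t a ha ψ from rfl, ← hinl] at h2
    have h3 := c.pointO_injective _ _ hae _ _ h2
    have h4 := RingHom.congr_fun (congrArg CommRingCat.Hom.hom h3)
    obtain ⟨y, rfl⟩ := Ideal.Quotient.mk_surjective x
    exact (congrArg TrivSqZeroExt.snd (h4 y)).trans (TrivSqZeroExt.snd_inl _ _)

theorem goodMap_comp {Ω' : Type u} [Field Ω'] [Algebra c.R Ω'] (j : Ω →ₐ[c.R] Ω')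
    (t' : Spec (CommRingCat.of Ω') ⟶ Spec (CommRingCat.of k)) (a' : Over.mk t' ⟶ G)
    (ha' : Spec.map (CommRingCat.ofHom (algebraMap c.R Ω')) ≫ c.p.left = a'.left) (ψ : Alg c I →ₐ[c.R] Ω) :
    (goodMap c I t' a' ha' (j.comp ψ)).left = Spec.map (CommRingCat.ofHom j.toRingHom) ≫ (goodMap c I t a ha ψ).left := by
  show Spec.map _ ≫ _ = _ ≫ Spec.map _ ≫ _
  rw [← Spec.map_comp_assoc]
  rfl

end Good

end Groth.Agent.AVTrace
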