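import Groth.Agent.AVTrace.Trace
import Groth.Agent.GrpSchLib.ReducedPoints

/-!
Maps to an abelian subvariety, multiplying translations by a positive integer.
-/

set_option linter.style.haveILetI false
set_option linter.unusedSectionVars false
set_option backward.isDefEq.respectTransparency false
set_option backward.isDefEq.respectTransparency.types false

universe u

open CategoryTheory CategoryTheory.Limits MonoidalCategory CartesianMonoidalCategory MonObj GrpObj AlgebraicGeometry

namespace Groth.Agent.AVTrace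

variable {k : Type u} [Field k] {G B V : Over (Spec (CommRingCat.of k))} [GrpObj G] [GrpObj B]

theorem pair_mul (i : B ⟶ G) [IsMonHom i] {T : Over (Spec (CommRingCat.of k))} (a : T ⟶ G) (β b : T ⟶ B) :
    pair i (a * (b ≫ i)) (β * b) = pair i a β := by
  simp only [pair, MonObj.mul_comp, _root_.mul_inv_rev]
  rw [_root_.mul_assoc, ← _root_.mul_assoc (b ≫ i), mul_inv_cancel, _root_.one_mul]

/-- Good points move along with translations. -/
theorem goodPt_mul (i : B ⟶ G) [IsMonHom i] (vι : V ⟶ G) {Ω : Type u} [Field Ω]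
    (t : Spec (CommRingCat.of Ω) ⟶ Spec (CommRingCat.of k)) (a : Over.mk t ⟶ G) (β b : Over.mk t ⟶ B)
    (h : GoodPt i vι t a β) : GoodPt i vι t (a * (b ≫ i)) (β * b) := by
  refine ⟨by rw [pair_mul]; exact h.1, fun β' hβ' hm => ?_⟩
  have h1 : thickPt t ≫ (β' * (thickProj t ≫ b)⁻¹) = β := by
    rw [MonObj.comp_mul, GrpObj.comp_inv, hβ', ← Category.assoc, thickPt_proj, Category.id_comp, mul_inv_cancel_right]
  have h2 : Mem vι (pair i (thickProj t ≫ a) (β' * (thickProj t ≫ b)⁻¹)) := by
    rw [← pair_mul i (thickProj t ≫ a) (β' * (thickProj t ≫ b)⁻¹) (thickProj t ≫ b), inv_mul_cancel_right]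
    rw [MonObj.comp_mul, ← Category.assoc] at hm
    exact hm
  have h3 := h.2 _ h1 h2
  rw [mul_inv_eq_iff_eq_mul] at h3
  rw [h3, ← MonObj.comp_mul]

theorem genericPoint_map_eq {X Y : Scheme.{u}} [IsIntegral X] [IsIntegral Y] (f : X ⟶ Y) [IsDominant f] :
    f (genericPoint X) = genericPoint Y := by
  apply IsGenericPoint.eq (S := (Set.univ : Set Y))
  · have h := (genericPoint_spec X).image f.continuous
    rw [Set.image_univ, f.denseRange.closure_range] at h
    exact h
  · exact genericPoint_spec Y

/-- A geometric point at the generic point. -/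
theorem exists_generic_point (X : Scheme.{u}) [IsIntegral X] :
    ∃ (Ω : Type u) (_ : Field Ω) (_ : IsAlgClosed Ω) (x : Spec (CommRingCat.of Ω) ⟶ X),
      x (IsLocalRing.closedPoint Ω) = genericPoint X := by
  let g := genericPoint X
  let e : X.residueField g ⟶ CommRingCat.of (AlgebraicClosure (X.residueField g)) :=
    CommRingCat.ofHom (algebraMap (X.residueField g) (AlgebraicClosure (X.residueField g)))
  exact ⟨AlgebraicClosure (X.residueField g), inferInstance, inferInstance, Spec.map e ≫ X.fromSpecResidueField g,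
    Scheme.fromSpecResidueField_apply g (Spec.map e (IsLocalRing.closedPoint _))⟩

theorem isDominant_of_mem {T X : Scheme.{u}} [IsIntegral X] (x : T ⟶ X) {s : T} (hs : x s = genericPoint X) :
    IsDominant x := ⟨by
  rw [DenseRange, dense_iff_closure_eq, Set.eq_univ_iff_forall]
  intro y
  refine closure_mono ?_ (genericPoint_specializes y).mem_closure
  exact Set.singleton_subset_iff.2 ⟨s, hs⟩⟩

/-- A commutative proper group subscheme is a translation-equivariant direct factor up to a positive multiple. -/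
theorem exists_equivariant [LocallyOfFiniteType G.hom] [QuasiCompact G.hom] [Smooth G.hom] [IsSeparated G.hom] [GeometricallyIntegral G.hom]
    [IsProper B.hom] [Smooth B.hom] [GeometricallyIntegral B.hom] [IsCommMonObj B]
    (i : B ⟶ G) [IsMonHom i] [IsClosedImmersion i.left] :
    ∃ (r : G ⟶ B) (d : ℕ), 0 < d ∧ ∀ (T : Over (Spec (CommRingCat.of k))) (g : T ⟶ G) (b : T ⟶ B),
      (g * (b ≫ i)) ≫ r = (g ≫ r) * b ^ d := by
  haveI : IsIntegral G.left := GeometricallyIntegral.isIntegral_of_subsingleton G.hom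
  obtain ⟨V, vι, r, d, hd, htr⟩ := exists_trace i
  refine ⟨r, d, hd, ?_⟩
  let F1 : G ⊗ B ⟶ B := (fst G B * (snd G B ≫ i)) ≫ r
  let F2 : G ⊗ B ⟶ B := (fst G B ≫ r) * (snd G B) ^ d
  suffices hF : F1 = F2 by
    intro T g b
    have h := congrArg (lift g b ≫ ·) hF
    simp only [F1, F2, MonObj.comp_mul, ← Category.assoc, lift_fst, lift_snd] at h
    rw [h]
    rw [MonObj.comp_pow, lift_snd]
  let K : Type u := AlgebraicClosure k
  let S : Over (Spec (CommRingCat.of k)) := Over.mk (Spec.map (CommRingCat.ofHom (algebraMap k K)))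
  have key : ∀ c : S ⟶ B, (G ◁ c) ≫ F1 = (G ◁ c) ≫ F2 := by
    intro c
    let X := G ⊗ S
    haveI : IsIntegral X.left := by
      haveI : IsLocallyNoetherian S.left := inferInstanceAs (IsLocallyNoetherian (Spec (CommRingCat.of K)))
      haveI : IsIntegral S.left := inferInstanceAs (IsIntegral (Spec (CommRingCat.of K)))
      exact inferInstanceAs (IsIntegral (pullback G.hom S.hom))
    let τ : X ⟶ X := lift (fst G S * (snd G S ≫ c ≫ i)) (snd G S)
    let τ' : X ⟶ X := lift (fst G S * (snd G S ≫ c ≫ i)⁻¹) (snd G S)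
    let e : X ≅ X := ⟨τ, τ', by ext1 <;> simp [X, τ, τ', MonObj.comp_mul, GrpObj.comp_inv],
      by ext1 <;> simp [X, τ, τ', MonObj.comp_mul, GrpObj.comp_inv]⟩
    haveI : IsIso τ.left := ((Over.forget _).mapIso e).isIso_hom
    haveI : IsDominant (fst G S).left := by
      haveI : Surjective S.hom := ⟨Function.surjective_to_subsingleton (α := Spec (CommRingCat.of K))
        (β := Spec (CommRingCat.of k)) _⟩
      haveI : Surjective (fst G S).left := inferInstanceAs (Surjective (pullback.fst G.hom S.hom))
      infer_instance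
    obtain ⟨Ω, _, _, x, hx⟩ := exists_generic_point X.left
    let t : Spec (CommRingCat.of Ω) ⟶ Spec (CommRingCat.of k) := x ≫ X.hom
    let xT : Over.mk t ⟶ X := Over.homMk x rfl
    let a : Over.mk t ⟶ G := xT ≫ fst G S
    let b : Over.mk t ⟶ B := xT ≫ snd G S ≫ c
    have ha : a.left (IsLocalRing.closedPoint Ω) = genericPoint G.left := by
      show (fst G S).left (x (IsLocalRing.closedPoint Ω)) = _
      rw [hx, genericPoint_map_eq]
    have hab : a * (b ≫ i) = xT ≫ τ ≫ fst G S := by
      simp [a, b, τ, MonObj.comp_mul]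
    have ha' : (a * (b ≫ i)).left (IsLocalRing.closedPoint Ω) = genericPoint G.left := by
      rw [hab]
      show (fst G S).left (τ.left (x (IsLocalRing.closedPoint Ω))) = _
      rw [hx, genericPoint_map_eq, genericPoint_map_eq]
    obtain ⟨hc1, hp1⟩ := htr Ω t a ha
    obtain ⟨-, hp2⟩ := htr Ω t (a * (b ≫ i)) ha'
    have himg : {β | GoodPt i vι t (a * (b ≫ i)) β} = (· * b) '' {β | GoodPt i vι t a β} := by
      ext β
      refine ⟨fun hβ => ⟨β * b⁻¹, ?_, inv_mul_cancel_right β b⟩, ?_⟩
      · have := goodPt_mul i vι t _ β b⁻¹ hβ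
        rwa [GrpObj.inv_comp, mul_inv_cancel_right] at this
      · rintro ⟨β₀, hβ₀, rfl⟩
        exact goodPt_mul i vι t a β₀ b hβ₀
    have hfin : {β | GoodPt i vι t a β}.Finite := by
      rw [← Set.finite_coe_iff]
      exact Nat.finite_of_card_ne_zero (by omega)
    have hshift : (a * (b ≫ i)) ≫ r = (a ≫ r) * b ^ d := by
      rw [← hp1, ← hp2, himg, finprod_mem_image (fun β _ β' _ h => mul_right_cancel h),
        finprod_mem_mul_distrib hfin]
      congr 1
      rw [finprod_mem_eq_finite_toFinset_prod _ hfin, Finset.prod_const, ← hc1, Nat.card_coe_set_eq,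
        Set.ncard_eq_toFinset_card _ hfin]
    haveI : B.left.IsSeparated := ⟨by rw [← terminal.comp_from B.hom]; infer_instance⟩
    haveI : IsDominant x := isDominant_of_mem x hx
    apply Over.OverMorphism.ext
    refine ext_of_isDominant x ?_
    have h1 : xT ≫ (G ◁ c) ≫ F1 = xT ≫ (G ◁ c) ≫ F2 := by
      simp only [F1, F2, MonObj.comp_mul, MonObj.comp_pow, ← Category.assoc, whiskerLeft_fst, whiskerLeft_snd]
      simpa [a, b, MonObj.comp_mul, MonObj.comp_pow] using hshift
    exact congrArg CommaMorphism.left h1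
  let Δ : B ⟶ B ⊗ B := lift (𝟙 B) (𝟙 B)
  haveI : IsClosedImmersion Δ.left := by
    haveI : IsSeparated (fst B B).left := inferInstanceAs (IsSeparated (pullback.fst B.hom B.hom))
    have h1 : Δ.left ≫ (fst B B).left = 𝟙 _ := by rw [← Over.comp_left, lift_fst]; rfl
    haveI : IsClosedImmersion (Δ.left ≫ (fst B B).left) := by rw [h1]; infer_instance
    exact IsClosedImmersion.of_comp Δ.left (fst B B).left
  haveI : IsReduced (G ⊗ B).left := by
    haveI := H23.RatExt.geometricallyIntegral_prod G B
    haveI : IsIntegral (G ⊗ B).left := GeometricallyIntegral.isIntegral_of_subsingleton (G ⊗ B).hom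
    infer_instance
  haveI : LocallyOfFiniteType (G ⊗ B).hom := inferInstanceAs (LocallyOfFiniteType (pullback.fst G.hom B.hom ≫ G.hom))
  obtain ⟨f', hf'⟩ := GrpSchLib.exists_fac_of_points (K := K) (lift F1 F2) Δ fun s => by
    refine ⟨s ≫ F1, ?_⟩
    have hs : s = lift (s ≫ fst G B) (𝟙 S) ≫ (G ◁ (s ≫ snd G B)) := by
      apply CartesianMonoidalCategory.hom_ext
      · simp
      · simp only [Category.assoc, whiskerLeft_snd, lift_snd_assoc]
        exact (Category.id_comp (s ≫ snd G B)).symm
    have h12 : s ≫ F1 = s ≫ F2 := by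
      rw [hs, Category.assoc, Category.assoc, key]
    apply CartesianMonoidalCategory.hom_ext
    · simp [Δ]
    · simp [Δ, h12]
  have h1 := congrArg (· ≫ fst B B) hf'
  have h2 := congrArg (· ≫ snd B B) hf'
  simp only [Δ, Category.assoc, lift_fst, lift_snd, Category.comp_id] at h1 h2
  exact h1.symm.trans h2

end Groth.Agent.AVTrace
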