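import Groth.Agent.AVTrace.Points
import Groth.Agent.H23.RatExt
import Groth.Agent.H23.RigidAb

/-!
The trace of a transversal: a morphism to the abelian subvariety.
-/

set_option linter.style.haveILetI false
set_option linter.unusedSectionVars false
set_option backward.isDefEq.respectTransparency false
set_option backward.isDefEq.respectTransparency.types false

universe u

open CategoryTheory CategoryTheory.Limits MonoidalCategory CartesianMonoidalCategory MonObj GrpObj AlgebraicGeometry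
open scoped TensorProduct

namespace Groth.Agent.AVTrace

variable {k : Type u} [Field k] {G B : Over (Spec (CommRingCat.of k))} [GrpObj G]

/-- A point with values in a Galois extension, invariant under the Galois group, is rational. -/
theorem exists_fac_of_invariant {F L : Type u} [Field F] [Field L] [Algebra F L] [IsGalois F L] {X : Scheme.{u}}
    (x : Spec (CommRingCat.of L) ⟶ X)
    (h : ∀ σ : L ≃ₐ[F] L, Spec.map (CommRingCat.ofHom (σ : L →+* L)) ≫ x = x) :
    ∃ x₀ : Spec (CommRingCat.of F) ⟶ X, Spec.map (CommRingCat.ofHom (algebraMap F L)) ≫ x₀ = x := by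
  obtain ⟨⟨y, e⟩, rfl⟩ := (Scheme.SpecToEquivOfField L X).symm.surjective x
  have hfix : ∀ (σ : L ≃ₐ[F] L) (v : X.residueField y), σ (e.hom v) = e.hom v := by
    intro σ v
    have h1 : Spec.map (e ≫ CommRingCat.ofHom (σ : L →+* L)) ≫ X.fromSpecResidueField y =
        Spec.map e ≫ X.fromSpecResidueField y := by
      rw [Spec.map_comp, Category.assoc]; exact h σ
    rw [cancel_mono] at h1
    exact RingHom.congr_fun (congrArg CommRingCat.Hom.hom (Spec.map_injective h1)) v
  have hmem : ∀ v, e.hom v ∈ (algebraMap F L).range := fun v =>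
    (InfiniteGalois.mem_range_algebraMap_iff_fixed (k := F) (e.hom v)).2 fun σ => hfix σ v
  let eF : L →+* L := RingHom.id L
  let r : F ≃+* (algebraMap F L).range :=
    RingEquiv.ofBijective (algebraMap F L).rangeRestrict
      ⟨fun a b hab => (algebraMap F L).injective (congrArg Subtype.val hab), (algebraMap F L).rangeRestrict_surjective⟩
  let e₀ : X.residueField y ⟶ CommRingCat.of F :=
    CommRingCat.ofHom (r.symm.toRingHom.comp (e.hom.codRestrict (algebraMap F L).range hmem))
  refine ⟨Spec.map e₀ ≫ X.fromSpecResidueField y, ?_⟩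
  rw [← Spec.map_comp_assoc]
  show Spec.map _ ≫ _ = Spec.map e ≫ _
  congr 2
  ext v
  exact congrArg Subtype.val (r.apply_symm_apply ⟨e.hom v, hmem v⟩)

/-- Precomposition with a morphism, as a homomorphism of monoids of points. -/
noncomputable def preHom [GrpObj B] [IsCommMonObj B] {T T' : Over (Spec (CommRingCat.of k))} (f : T' ⟶ T) : (T ⟶ B) →* (T' ⟶ B) where
  toFun := (f ≫ ·)
  map_one' := MonObj.comp_one f
  map_mul' := fun x y => MonObj.comp_mul f x y

variable [GrpObj B]

/-- `r` is the trace of the transversal `vι`, of degree `d`, over the generic point. -/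
def IsTrace [IsCommMonObj B] {V : Over (Spec (CommRingCat.of k))} (i : B ⟶ G) [IrreducibleSpace G.left] (vι : V ⟶ G)
    (r : G ⟶ B) (d : ℕ) : Prop :=
  ∀ (Ω : Type u) [Field Ω] [IsSepClosed Ω] (t : Spec (CommRingCat.of Ω) ⟶ Spec (CommRingCat.of k))
    (a : Over.mk t ⟶ G), a.left (IsLocalRing.closedPoint Ω) = genericPoint G.left →
      Nat.card {β | GoodPt i vι t a β} = d ∧ ∏ᶠ β ∈ {β | GoodPt i vι t a β}, β = a ≫ r

/-- Transversals with a trace exist. -/
theorem exists_trace [Smooth G.hom] [IsSeparated G.hom] [GeometricallyIntegral G.hom] [IsProper B.hom]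
    [Smooth B.hom] [IsCommMonObj B] [IsIntegral G.left] (i : B ⟶ G) [IsMonHom i] [IsClosedImmersion i.left] :
    ∃ (V : Over (Spec (CommRingCat.of k))) (vι : V ⟶ G) (r : G ⟶ B) (d : ℕ), 0 < d ∧ IsTrace i vι r d := by
  obtain ⟨c⟩ := exists_chart i
  haveI := c.p_open
  haveI := c.o_open
  -- the unit point
  let aε : 𝟙_ (Over (Spec (CommRingCat.of k))) ⟶ Over.mk (Spec.map c.κ) := Over.homMk (Spec.map c.ε) (by
    show Spec.map c.ε ≫ Spec.map c.κ = 𝟙 _
    rw [← Spec.map_comp, c.κε, Spec.map_id])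
  have hη : η[G] = 1 := by
    show η[G] = toUnit _ ≫ η[G]
    rw [show toUnit (𝟙_ (Over (Spec (CommRingCat.of k)))) = 𝟙 _ from toUnit_unique _ _, Category.id_comp]
  have hηB : η[B] = 1 := by
    show η[B] = toUnit _ ≫ η[B]
    rw [show toUnit (𝟙_ (Over (Spec (CommRingCat.of k)))) = 𝟙 _ from toUnit_unique _ _, Category.id_comp]
  have haε : aε ≫ c.p = η[G] := Over.OverMorphism.ext c.εp
  obtain ⟨z, -, hz2, -⟩ := c.univ aε aε η[B] (by
    rw [haε, pair, IsMonHom.one_hom, hη]; simp)
  let ψ₁ : c.D ⟶ CommRingCat.of k := Spec.preimage z.left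
  have hψ₁ : c.θ ≫ ψ₁ = c.ε := by
    apply Spec.map_injective
    rw [Spec.map_comp, Spec.map_preimage]
    exact hz2
  -- the ideal of the unit
  let m₀ : Set c.R := {x | c.ε.hom x = 0}
  let M : Ideal c.D := Ideal.span (c.θ.hom '' m₀)
  haveI hsurj : Algebra.FormallyUnramified c.R (c.D ⧸ M) := by
    have hf : c.θ ≫ CommRingCat.ofHom (Ideal.Quotient.mk M) =
        c.ε ≫ c.κ ≫ c.ρ ≫ CommRingCat.ofHom (Ideal.Quotient.mk M) := by
      ext x
      show Ideal.Quotient.mk M (c.θ.hom x) = Ideal.Quotient.mk M (c.ρ.hom (c.κ.hom (c.ε.hom x)))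
      have h1 : c.ρ.hom (c.κ.hom (c.ε.hom x)) = c.θ.hom (c.κ.hom (c.ε.hom x)) :=
        (RingHom.congr_fun (congrArg CommRingCat.Hom.hom c.κθ) _).symm
      rw [h1, Ideal.Quotient.eq, ← map_sub]
      refine Ideal.subset_span ⟨_, ?_, rfl⟩
      show c.ε.hom _ = 0
      have h2 : c.ε.hom (c.κ.hom (c.ε.hom x)) = c.ε.hom x :=
        RingHom.congr_fun (congrArg CommRingCat.Hom.hom c.κε) _
      rw [map_sub, h2, sub_self]
    have hs := c.unit_cl _ hf (IsClosedImmersion.spec_of_quotient_mk M)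
    exact Algebra.FormallyUnramified.of_surjective (Algebra.ofId c.R (c.D ⧸ M)) hs
  haveI : Algebra.Smooth c.R c.D := c.smooth
  have hMq : M ≤ RingHom.ker ψ₁.hom := by
    refine Ideal.span_le.2 ?_
    rintro _ ⟨x, hx, rfl⟩
    exact (RingHom.congr_fun (congrArg CommRingCat.Hom.hom hψ₁) x).trans hx
  haveI : (RingHom.ker ψ₁.hom).IsPrime := RingHom.ker_isPrime _
  obtain ⟨g, hg, κ', hκ', f, hf, hetale⟩ := exists_etale_cut' (R := c.R) M (RingHom.ker ψ₁.hom) hMq _ rfl
  choose x hx hfx using hf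
  let I : Ideal c.R := Ideal.span (Set.range x)
  have hJ : I.map c.θ.hom = Ideal.span (Set.range f) := by
    rw [Ideal.map_span, ← Set.range_comp]
    congr 2
    exact funext hfx
  -- rings
  haveI : Nonempty ↥(Spec c.R) := ⟨Spec.map c.ε (IsLocalRing.closedPoint k)⟩
  haveI hint : IsIntegral (Spec c.R) := isIntegral_of_isOpenImmersion c.p.left
  haveI : IsDomain c.R := (affine_isIntegral_iff c.R).1 hint
  haveI : LocallyOfFiniteType (Spec.map c.κ) := by
    rw [show Spec.map c.κ = c.p.left ≫ G.hom from (Over.w c.p).symm]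
    infer_instance
  haveI : IsNoetherianRing c.R := by
    have h := (HasRingHomProperty.Spec_iff (P := @LocallyOfFiniteType)).1 ‹LocallyOfFiniteType (Spec.map c.κ)›
    letI := c.κ.hom.toAlgebra
    haveI : Algebra.FiniteType k c.R := h
    exact Algebra.FiniteType.isNoetherianRing k c.R
  haveI : Algebra.FinitePresentation c.R c.D := inferInstance
  haveI : Algebra.FiniteType c.R (Alg c I) :=
    Algebra.FiniteType.of_surjective (Ideal.Quotient.mkₐ c.R _) Ideal.Quotient.mk_surjective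
  haveI : IsNoetherianRing c.D := Algebra.FiniteType.isNoetherianRing c.R c.D
  haveI : IsNoetherianRing (Alg c I) := inferInstance
  -- the generic point
  let F : Type u := (Spec c.R).functionField
  let L : Type u := SeparableClosure F
  haveI : IsFractionRing c.R F := functionField_isFractionRing_of_affine c.R
  haveI : IsGalois F L := inferInstance
  haveI : IsSepClosure F L := inferInstance
  haveI : IsSepClosed L := IsSepClosure.sep_closed F
  obtain ⟨ψ₀, hψ₀⟩ : ∃ ψ : Alg c I →ₐ[c.R] L, Good ψ :=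
    exists_good_quotient F (I.map c.θ.hom) g f (fun j => hfx j ▸ Ideal.mem_map_of_mem _ (Ideal.subset_span ⟨j, rfl⟩)) hJ
      (RingHom.ker ψ₁.hom) (by
        refine le_trans ?_ hMq
        rw [Ideal.map_span]
        refine Ideal.span_mono ?_
        rintro _ ⟨_, ⟨j, rfl⟩, rfl⟩
        exact ⟨x j, hx j, rfl⟩) hg
  have hfinL : {ψ : Alg c I →ₐ[c.R] L | Good ψ}.Finite := finite_good (F := F)
  let d := Nat.card {ψ : Alg c I →ₐ[c.R] L | Good ψ}
  have hd : 0 < d := by
    haveI := hfinL.to_subtype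
    haveI : Nonempty {ψ : Alg c I →ₐ[c.R] L | Good ψ} := ⟨⟨ψ₀, hψ₀⟩⟩
    exact Nat.card_pos
  let tL : Spec (CommRingCat.of L) ⟶ Spec (CommRingCat.of k) :=
    Spec.map (CommRingCat.ofHom (algebraMap c.R L)) ≫ Spec.map c.κ
  let aL : Over.mk tL ⟶ G :=
    (Over.homMk (Spec.map (CommRingCat.ofHom (algebraMap c.R L))) rfl : Over.mk tL ⟶ Over.mk (Spec.map c.κ)) ≫ c.p
  have haL : Spec.map (CommRingCat.ofHom (algebraMap c.R L)) ≫ c.p.left = aL.left := rfl
  let qL : Over.mk tL ⟶ B := ∏ᶠ ψ ∈ {ψ : Alg c I →ₐ[c.R] L | Good ψ}, goodMap c I tL aL haL ψ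
  have hinv : ∀ σ : L ≃ₐ[F] L, Spec.map (CommRingCat.ofHom (σ : L →+* L)) ≫ qL.left = qL.left := by
    intro σ
    let σT : Over.mk tL ⟶ Over.mk tL := Over.homMk (Spec.map (CommRingCat.ofHom (σ : L →+* L))) (by
      show Spec.map _ ≫ Spec.map _ ≫ _ = Spec.map _ ≫ _
      rw [← Spec.map_comp_assoc]
      congr 2
      refine CommRingCat.hom_ext (RingHom.ext fun y => ?_)
      exact (σ.restrictScalars c.R).commutes y)
    suffices σT ≫ qL = qL from congrArg CommaMorphism.left this
    show preHom σT qL = qL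
    rw [(preHom (B := B) σT).map_finprod_mem _ hfinL]
    refine finprod_mem_eq_of_bijOn (fun ψ => (σ.restrictScalars c.R).toAlgHom.comp ψ) ⟨?_, ?_, ?_⟩ ?_
    · exact fun ψ hψ => (good_comp_iff (σ.restrictScalars c.R).toAlgHom ψ).2 hψ
    · intro ψ _ ψ' _ h
      refine AlgHom.ext fun y => ?_
      exact σ.injective (DFunLike.congr_fun h y)
    · intro ψ hψ
      refine ⟨(σ.symm.restrictScalars c.R).toAlgHom.comp ψ,
        (good_comp_iff (σ.symm.restrictScalars c.R).toAlgHom ψ).2 hψ, ?_⟩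
      refine AlgHom.ext fun y => ?_
      exact σ.apply_symm_apply (ψ y)
    · intro ψ _
      apply Over.OverMorphism.ext
      exact (goodMap_comp c I tL aL haL (σ.restrictScalars c.R).toAlgHom tL aL haL ψ).symm
  obtain ⟨x₀, hx₀⟩ := exists_fac_of_invariant qL.left hinv
  -- extension
  have h₀ : x₀ ≫ B.hom = (Spec c.R).fromSpecStalk (genericPoint (Spec c.R)) ≫ Spec.map c.κ := by
    obtain ⟨e₁, he₁⟩ : ∃ e₁, Spec.map e₁ = x₀ ≫ B.hom := ⟨_, Spec.map_preimage _⟩
    have h1 : Spec.map (CommRingCat.ofHom (algebraMap F L)) ≫ x₀ ≫ B.hom = tL := by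
      rw [reassoc_of% hx₀]; exact Over.w qL
    rw [← he₁, ← Spec.map_comp] at h1
    rw [← he₁, Spec.fromSpecStalk_eq, ← Spec.map_comp]
    congr 1
    have h2 : e₁ ≫ CommRingCat.ofHom (algebraMap F L) = c.κ ≫ CommRingCat.ofHom (algebraMap c.R L) :=
      Spec.map_injective (h1.trans (Spec.map_comp _ _).symm)
    ext y
    refine (algebraMap F L).injective ?_
    refine (RingHom.congr_fun (congrArg CommRingCat.Hom.hom h2) y).trans ?_
    exact IsScalarTower.algebraMap_apply c.R F L _
  haveI : B.left.IsSeparated := ⟨by rw [← terminal.comp_from B.hom]; infer_instance⟩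
  obtain ⟨W, hgW, H, -, hH, hH₀⟩ := H23.RatExtend.extend (Spec.map c.κ) B.hom x₀ h₀ ∅ (by simp)
  let W' : G.left.Opens := c.p.left ''ᵁ W
  have hgen : c.p.left (genericPoint (Spec c.R)) = genericPoint G.left :=
    genericPoint_eq_of_isOpenImmersion (X := Spec c.R) c.p.left
  obtain ⟨r, hr⟩ := H23.RatExt.exists_extension (X := G) (G := B) W' ⟨_, genericPoint (Spec c.R), hgW, rfl⟩
    ((c.p.left.isoImage W).inv ≫ H) (by
      rw [Category.assoc, hH, Iso.inv_comp_eq, ← Category.assoc]
      rw [Scheme.Hom.isoImage_hom_ι, Category.assoc]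
      exact congrArg (W.ι ≫ ·) (Over.w c.p).symm)
  have hηr : (Spec c.R).fromSpecStalk (genericPoint (Spec c.R)) ≫ c.p.left ≫ r.left = x₀ := by
    rw [← Scheme.Opens.fromSpecStalkOfMem_ι W _ hgW, Category.assoc, ← Scheme.Hom.isoImage_hom_ι_assoc, hr,
      Iso.hom_inv_id_assoc, hH₀]
  refine ⟨c.cutObj I, c.cutMap I, r, d, hd, fun Ω _ _ t a hgenpt => ?_⟩
  have hrange : Set.range a.left ⊆ Set.range c.p.left := by
    haveI : Subsingleton ↥(Over.mk t).left := inferInstanceAs (Subsingleton (PrimeSpectrum Ω))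
    rintro _ ⟨y, rfl⟩
    rw [Subsingleton.elim y (IsLocalRing.closedPoint Ω), hgenpt, ← hgen]
    exact ⟨_, rfl⟩
  obtain ⟨φ, hφ⟩ : ∃ φ : c.R ⟶ CommRingCat.of Ω, Spec.map φ ≫ c.p.left = a.left :=
    ⟨Spec.preimage (IsOpenImmersion.lift c.p.left a.left hrange),
      by rw [Spec.map_preimage, IsOpenImmersion.lift_fac]⟩
  letI : Algebra c.R Ω := φ.hom.toAlgebra
  have hinj : Function.Injective (algebraMap c.R Ω) := by
    have h1 : c.p.left (Spec.map φ (IsLocalRing.closedPoint Ω)) = c.p.left (genericPoint (Spec c.R)) := by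
      rw [hgen, ← hgenpt, ← hφ]; rfl
    have h2 := c.p.left.isOpenEmbedding.injective h1
    rw [genericPoint_eq_bot_of_affine] at h2
    have h3 := congrArg PrimeSpectrum.asIdeal h2
    rw [RingHom.injective_iff_ker_eq_bot]
    refine Eq.trans ?_ h3
    show RingHom.ker φ.hom = Ideal.comap φ.hom (IsLocalRing.maximalIdeal Ω)
    rw [IsLocalRing.maximalIdeal_eq_bot]
    rfl
  letI : Algebra F Ω := (IsFractionRing.lift hinj : F →+* Ω).toAlgebra
  haveI : IsScalarTower c.R F Ω :=
    IsScalarTower.of_algebraMap_eq fun y => (IsFractionRing.lift_algebraMap hinj y).symm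
  let j : L →ₐ[F] Ω := IsSepClosed.lift
  let jT : Over.mk t ⟶ Over.mk tL := Over.homMk (Spec.map (CommRingCat.ofHom j.toRingHom)) (by
    show Spec.map _ ≫ Spec.map _ ≫ Spec.map c.κ = t
    refine Eq.trans ?_ (Over.w a)
    rw [← hφ, Category.assoc, Over.w c.p, ← Spec.map_comp_assoc]
    congr 2
    ext y
    exact (j.restrictScalars c.R).commutes y)
  have hbij : Set.BijOn (fun ψ => (j.restrictScalars c.R).comp ψ) {ψ : Alg c I →ₐ[c.R] L | Good ψ}
      {ψ : Alg c I →ₐ[c.R] Ω | Good ψ} := by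
    refine ⟨fun ψ hψ => (good_comp_iff (j.restrictScalars c.R) ψ).2 hψ, ?_, ?_⟩
    · intro ψ _ ψ' _ h
      refine AlgHom.ext fun y => ?_
      exact j.injective (DFunLike.congr_fun h y)
    · intro ψ hψ
      obtain ⟨ψ₂, rfl⟩ := exists_comp_eq (L := L) j ψ hψ
      exact ⟨ψ₂, (good_comp_iff (j.restrictScalars c.R) ψ₂).1 hψ, rfl⟩
  have hb := goodPt_bijOn c I t a hφ
  refine ⟨?_, ?_⟩
  · rw [← hb.image_eq, ← hbij.image_eq, Nat.card_coe_set_eq, Set.ncard_image_of_injective _ (goodMap_injective c I t a hφ),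
      hbij.injOn.ncard_image]
    exact (Nat.card_coe_set_eq _).symm
  · rw [← finprod_mem_eq_of_bijOn _ hb (f := fun ψ => goodMap c I t a hφ ψ) fun _ _ => rfl]
    rw [← finprod_mem_eq_of_bijOn _ hbij (f := fun ψ => jT ≫ goodMap c I tL aL haL ψ) fun ψ _ =>
      Over.OverMorphism.ext (goodMap_comp c I tL aL haL (j.restrictScalars c.R) t a hφ ψ).symm]
    refine ((preHom (B := B) jT).map_finprod_mem _ hfinL).symm.trans ?_
    apply Over.OverMorphism.ext
    show Spec.map (CommRingCat.ofHom j.toRingHom) ≫ qL.left = a.left ≫ r.left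
    rw [← hx₀, ← hφ, ← hηr, Spec.fromSpecStalk_eq, ← Spec.map_comp_assoc, ← Spec.map_comp_assoc, Category.assoc]
    rw [Category.assoc]
    congr 2
    refine CommRingCat.hom_ext (RingHom.ext fun y => ?_)
    show j (algebraMap F L (algebraMap c.R F y)) = φ.hom y
    rw [j.commutes, ← IsScalarTower.algebraMap_apply]
    rfl

end Groth.Agent.AVTrace
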